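import Cfsg.Agent.H188.RC.ThmA
import Cfsg.Agent.H297.RC.LR

/-!
# S3510, row F: boxes F2 (Theorem A) without hypotheses (helper188)

`box_A` : the exact statement of the stubs (`box_A_of` + `H297.RC.box_LR`).
-/

set_option autoImplicit false

open Cfsg

namespace Cfsg.Agent.H188.RC

open QuadraticMap MulAction
open Cfsg.Agent.LieClassical.OrthCore Cfsg.Agent.LieClassical.OrthTrans
open Cfsg.Agent.LieClassical.OrthSimple Cfsg.Agent.ClassicalGeometry.OrthSemi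
open Cfsg.Agent.ClassicalGeometry.OrthAut1 Cfsg.Agent.H106.RC Cfsg.Agent.H93.RC

/-- **BOX A** (Theorem A): `W` a proper nondegenerate subspace invariant under all lifts -/
theorem box_A {F V G Ω : Type*} [Field F] [Finite F] [AddCommGroup V] [Module F V] [FiniteDimensional F V]
    {Q : QuadraticForm F V} [Group G] [Finite G] [Nonempty Ω] [MulAction G Ω] {N : Subgroup G}
    {ρ : ↥(E Q) →* G} (hG : Good Q) (hE : Env G Ω N) (hρ : Rep Q N ρ) {p : ℕ} [CharP F p]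
    {ι : Type*} [Finite ι] {x : ι → G} {M : ι → Gam Q} {r : ι → ℕ} (hl : ∀ i, Lf ρ (x i) (M i))
    (hr : ∀ i, (r i).Prime) (hx : ∀ i, x i ^ r i = 1) (hx1 : ∀ i, x i ≠ 1)
    (hc : ∀ i j, x i * x j = x j * x i) (hcov : Cov Ω x)
    (W : Submodule F V) (hW : Good (Q.comp W.subtype)) (hWt : W ≠ ⊤)
    (hinv : ∀ i, ∀ v ∈ W, (M i).1 v ∈ W) (hne : ∃ i, ¬ ScalOn (M i) W)
    (hinj : Set.InjOn r {i | ¬ ScalOn (M i) W}) (hp : ∀ i, ScalOn (M i) W → r i ≠ p)
    (hRC : RC (P (Q.comp W.subtype)) ∨ {i | ¬ ScalOn (M i) W}.Subsingleton) : False :=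
  box_A_of (p := p) hG hρ
    (fun _ _ _ _ _ hl hr hp hy hy1 hc _ _ hu hw huw hu0 hind hL hcov =>
      H297.RC.box_LR hG hE hρ hl hr hp hy hy1 hc hu hw huw hu0 hind hL hcov)
    hl hr hx hx1 hc hcov W hW hWt hinv hne hinj hp hRC

end Cfsg.Agent.H188.RC
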