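import Cfsg.Agent.H380.RC.Point
import Cfsg.Agent.H380.RC.EStmt

/-!
# S3510, family E, box E13x (helper188)

`graph43 : GraphFourThree`. `n = 4`, `q = 3`, `x₁` a graph involution (lift `T`, `V₀ = Fix T` quadratic space over `F₃`),
`x₂` of order 5 with lift `s`. For a singular `e ∈ V₀` with `∑ sⁱ e = 0`, `eᵢ = sⁱ e`, `a = h(e, s e)`:
`[E(e₀, a (e₂ - e₃)), s] = E(e₁ - e₂ + e₃, a (e₁ - e₀))`.
-/

set_option autoImplicit false

namespace Cfsg.Agent.H188.RC

open Matrix Cfsg Cfsg.Agent.LieClassical.HermBasic Cfsg.Agent.LieClassical.HermSiegel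
  Cfsg.Agent.LieClassical.HermGen Cfsg.Agent.LieClassical.SUBasic Cfsg.Agent.ClassicalGeometry.PSUAutBasic
  Cfsg.Agent.ClassicalGeometry.PSUAutCount Cfsg.Agent.H380.RC Cfsg.Agent.H106.RC

namespace G43

variable {F : Type*} [Field F] [Fintype F]

local notation "H" => hermForm 4 F 3

/-- the data: `T` and `s` -/
structure Dat (T s : (Fin 4 → F) → (Fin 4 → F)) : Prop where
  hF : Fintype.card F = 3 ^ 2
  Tadd : ∀ v w, T (v + w) = T v + T w
  Tsmul : ∀ (c : F) v, T (c • v) = c ^ 3 • T v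
  TT : ∀ v, T (T v) = v
  Therm : ∀ u v, H (T u) (T v) = (H u v) ^ 3
  sadd : ∀ v w, s (v + w) = s v + s w
  ssmul : ∀ (c : F) v, s (c • v) = c • s v
  sherm : ∀ u v, H (s u) (s v) = H u v
  s5 : ∀ v, s (s (s (s (s v)))) = v
  sT : ∀ v, s (T v) = T (s v)
  sne : ∃ v, s v ≠ v

variable {T s : (Fin 4 → F) → (Fin 4 → F)}

theorem three_eq_zero (hF : Fintype.card F = 3 ^ 2) : (3 : F) = 0 := by
  have h1 : ((Fintype.card F : ℕ) : F) = 0 := FiniteField.cast_card_eq_zero F
  rw [hF, Nat.cast_pow] at h1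
  exact (pow_eq_zero_iff two_ne_zero).1 (by exact_mod_cast h1)

namespace Dat

/-- vectors fixed by `T` killed by `1 + s + s² + s³ + s⁴` -/
structure W0 (T s : (Fin 4 → F) → (Fin 4 → F)) (u : Fin 4 → F) : Prop where
  tf : T u = u
  sum : u + s u + s (s u) + s (s (s u)) + s (s (s (s u))) = 0

variable (D : Dat T s)

include D

theorem h3 : (3 : F) = 0 := three_eq_zero D.hF

theorem Tneg (v) : T (-v) = -T v := by
  have h1 := D.Tsmul (-1) v
  have h2 : ((-1 : F)) ^ 3 = -1 := by norm_num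
  rw [h2, neg_one_smul, neg_one_smul] at h1
  exact h1

theorem Tsub (v w) : T (v - w) = T v - T w := by
  rw [sub_eq_add_neg, D.Tadd, D.Tneg, ← sub_eq_add_neg]

theorem sneg (v) : s (-v) = -s v := by
  have h1 := D.ssmul (-1) v
  rw [neg_one_smul, neg_one_smul] at h1
  exact h1

theorem ssub (v w) : s (v - w) = s v - s w := by
  rw [sub_eq_add_neg, D.sadd, D.sneg, ← sub_eq_add_neg]

theorem herm_fix {u v : Fin 4 → F} (hu : T u = u) (hv : T v = v) : (H u v) ^ 3 = H u v := by
  rw [← D.Therm, hu, hv]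

theorem herm_symm {u v : Fin 4 → F} (hu : T u = u) (hv : T v = v) : H v u = H u v := by
  rw [herm_swap D.hF u v]
  exact D.herm_fix hu hv

theorem Ts {u : Fin 4 → F} (hu : T u = u) : T (s u) = s u := by rw [← D.sT, hu]

/-- `W0` is invariant under `s` -/
theorem w0s {u : Fin 4 → F} (h : W0 T s u) : W0 T s (s u) := by
  refine ⟨D.Ts h.tf, ?_⟩
  have h1 := congrArg s h.sum
  simp only [D.sadd] at h1
  rw [h1]
  have := D.ssmul 0 0
  simpa using this

theorem w0add {u v : Fin 4 → F} (h : W0 T s u) (h' : W0 T s v) : W0 T s (u + v) := by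
  refine ⟨by rw [D.Tadd, h.tf, h'.tf], ?_⟩
  simp only [D.sadd]
  have h1 := h.sum
  have h2 := h'.sum
  calc _ = (u + s u + s (s u) + s (s (s u)) + s (s (s (s u)))) + (v + s v + s (s v) + s (s (s v)) + s (s (s (s v)))) := by abel
    _ = 0 := by rw [h1, h2, add_zero]

theorem w0neg {u : Fin 4 → F} (h : W0 T s u) : W0 T s (-u) := by
  refine ⟨by rw [D.Tneg, h.tf], ?_⟩
  simp only [D.sneg]
  have h1 := h.sum
  calc _ = -(u + s u + s (s u) + s (s (s u)) + s (s (s (s u)))) := by abel
    _ = 0 := by rw [h1, neg_zero]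

theorem w0sub {u v : Fin 4 → F} (h : W0 T s u) (h' : W0 T s v) : W0 T s (u - v) := by
  rw [sub_eq_add_neg]
  exact D.w0add h (D.w0neg h')

/-- a nonzero vector -/
theorem exists_u : ∃ u, W0 T s u ∧ u ≠ 0 := by
  obtain ⟨v, hv⟩ := D.sne
  obtain ⟨c, hc⟩ : ∃ c : F, c ^ 3 ≠ c := by
    obtain ⟨x, hx0, hx⟩ := exists_trace_zero_ne D.hF
    refine ⟨x, fun h => hx0 ?_⟩
    rw [h] at hx
    linear_combination (2 : F) * hx - x * D.h3
  have key : ∀ w, T w = w → s w ≠ w → ∃ u, W0 T s u ∧ u ≠ 0 := by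
    intro w hw hne
    refine ⟨s w - w, ⟨by rw [D.Tsub, D.Ts hw, hw], ?_⟩, sub_ne_zero.2 hne⟩
    simp only [D.ssub, D.s5]
    abel
  by_cases h1 : s (v + T v) = v + T v
  · by_cases h2 : s (c • v + T (c • v)) = c • v + T (c • v)
    · exfalso
      rw [D.sadd, D.sT] at h1
      rw [D.sadd, D.sT, D.ssmul, D.Tsmul, D.Tsmul] at h2
      apply hv
      have e1 : (c - c ^ 3) • (s v - v) = 0 := by
        have e2 : T (s v) = v + T v - s v := by rw [← h1]; abel
        rw [e2] at h2
        have e3 : (c - c ^ 3) • (s v - v) = (c • s v + c ^ 3 • (v + T v - s v)) - (c • v + c ^ 3 • T v) := by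
          module
        rw [e3, h2, sub_self]
      rcases smul_eq_zero.1 e1 with h | h
      · exact absurd (sub_eq_zero.1 h).symm hc
      · exact sub_eq_zero.1 h
    · exact key _ (by rw [D.Tadd, D.TT, add_comm]) h2
  · exact key _ (by rw [D.Tadd, D.TT, add_comm]) h1

/-- the values of the form on the orbit of `u` -/
theorem tab {u : Fin 4 → F} (h : W0 T s u) :
    H u (s (s (s u))) = H u (s (s u)) ∧ H u (s (s (s (s u)))) = H u (s u) ∧
      H u u = H u (s u) + H u (s (s u)) := by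
  have h1 := D.Ts h.tf
  have h2 := D.Ts h1
  have e1 : H u (s (s (s u))) = H u (s (s u)) := by
    rw [← D.sherm u (s (s (s u))), ← D.sherm (s u), D.s5, D.herm_symm h.tf h2]
  have e2 : H u (s (s (s (s u)))) = H u (s u) := by
    rw [← D.sherm u (s (s (s (s u)))), D.s5, D.herm_symm h.tf h1]
  refine ⟨e1, e2, ?_⟩
  have h3 : H u (u + s u + s (s u) + s (s (s u)) + s (s (s (s u)))) = 0 := by
    rw [h.sum, herm_zero_right D.hF]
  rw [herm_add_right D.hF, herm_add_right D.hF, herm_add_right D.hF, herm_add_right D.hF, e1, e2] at h3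
  linear_combination h3 - (H u (s u) + H u (s (s u))) * D.h3

/-- a vector with `h(w, w) ≠ 0` -/
theorem exists_w : ∃ w, W0 T s w ∧ H w w ≠ 0 := by
  obtain ⟨u, hu, hu0⟩ := D.exists_u
  obtain ⟨v, hv⟩ := exists_herm_ne_zero D.hF hu0
  have hs0 : s 0 = 0 := by simpa using D.ssmul 0 0
  -- normalise
  obtain ⟨v1, hv1⟩ : ∃ v1 : Fin 4 → F, H u v1 = 1 := by
    refine ⟨((H u v)⁻¹) ^ 3 • v, ?_⟩
    rw [herm_smul_right, pow_q_pow_q D.hF, inv_mul_cancel₀ hv]
  obtain ⟨v2, hv2, hT2⟩ : ∃ v2 : Fin 4 → F, H u v2 = -1 ∧ T v2 = v2 := by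
    refine ⟨v1 + T v1, ?_, by rw [D.Tadd, D.TT, add_comm]⟩
    have h1 : H u (T v1) = 1 := by
      have h2 := D.Therm u v1
      rw [hu.tf, hv1, one_pow] at h2
      exact h2
    rw [herm_add_right D.hF, hv1, h1]
    linear_combination D.h3
  obtain ⟨v3, hv3, hW3⟩ : ∃ v3 : Fin 4 → F, H u v3 = -1 ∧ W0 T s v3 := by
    refine ⟨v2 + (v2 + s v2 + s (s v2) + s (s (s v2)) + s (s (s (s v2)))), ?_, ?_, ?_⟩
    · have k1 : H u (s v2) = H (s (s (s (s u)))) v2 := by
        rw [← D.sherm (s (s (s (s u)))), D.s5]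
      have k2 : H u (s (s v2)) = H (s (s (s u))) v2 := by
        rw [← D.sherm (s (s (s u))), ← D.sherm (s (s (s (s u)))), D.s5]
      have k3 : H u (s (s (s v2))) = H (s (s u)) v2 := by
        rw [← D.sherm (s (s u)), ← D.sherm (s (s (s u))), ← D.sherm (s (s (s (s u)))), D.s5]
      have k4 : H u (s (s (s (s v2)))) = H (s u) v2 := by
        rw [← D.sherm (s u), ← D.sherm (s (s u)), ← D.sherm (s (s (s u))), ← D.sherm (s (s (s (s u)))), D.s5]
      have k5 : H (u + s u + s (s u) + s (s (s u)) + s (s (s (s u)))) v2 = 0 := by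
        rw [hu.sum, herm_zero_left]
      simp only [herm_add_left] at k5
      simp only [herm_add_right D.hF, k1, k2, k3, k4]
      linear_combination hv2 + k5
    · simp only [D.Tadd, ← D.sT, hT2]
    · simp only [D.sadd, D.s5]
      have h3v : ∀ v : Fin 4 → F, v + v + v = 0 := fun v => by
        have : v + v + v = (3 : F) • v := by module
        rw [this, D.h3, zero_smul]
      have e := h3v (v2 + s v2 + s (s v2) + s (s (s v2)) + s (s (s (s v2))))
      calc _ = (v2 + s v2 + s (s v2) + s (s (s v2)) + s (s (s (s v2)))) +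
            (v2 + s v2 + s (s v2) + s (s (s v2)) + s (s (s (s v2)))) +
            (v2 + s v2 + s (s v2) + s (s (s v2)) + s (s (s (s v2)))) + ((v2 + s v2 + s (s v2) + s (s (s v2)) + s (s (s (s v2)))) +
            (v2 + s v2 + s (s v2) + s (s (s v2)) + s (s (s (s v2)))) +
            (v2 + s v2 + s (s v2) + s (s (s v2)) + s (s (s (s v2))))) := by abel
        _ = 0 := by rw [e, add_zero]
  by_cases h1 : H u u = 0
  · by_cases h2 : H v3 v3 = 0
    · refine ⟨u + v3, D.w0add hu hW3, ?_⟩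
      rw [herm_add_left, herm_add_right D.hF, herm_add_right D.hF, h1, h2, D.herm_symm hu.tf hW3.tf, hv3]
      intro h4
      have h5 : (1 : F) = 0 := by linear_combination h4 + D.h3
      exact one_ne_zero h5
    · exact ⟨v3, hW3, h2⟩
  · exact ⟨u, hu, h1⟩

/-- a singular vector with `h(e, s e) ≠ 0` -/
theorem exists_e : ∃ (e : Fin 4 → F) (a : F), W0 T s e ∧ H e e = 0 ∧ H e (s e) = a ∧ a * a = 1 := by
  obtain ⟨w, hw, hw0⟩ := D.exists_w
  obtain ⟨t1, t2, t3⟩ := D.tab hw
  have w1 := D.w0s hw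
  have w2 := D.w0s w1
  have w3 := D.w0s w2
  have cube : ∀ u v : Fin 4 → F, W0 T s u → W0 T s v → H u v = 0 ∨ H u v = 1 ∨ H u v = -1 := by
    intro u v hu hv
    have h1 := D.herm_fix hu.tf hv.tf
    have h2 : (H u v) * ((H u v - 1) * (H u v + 1)) = 0 := by linear_combination h1
    rcases mul_eq_zero.1 h2 with h | h
    · exact Or.inl h
    · rcases mul_eq_zero.1 h with h | h
      · exact Or.inr (Or.inl (sub_eq_zero.1 h))
      · exact Or.inr (Or.inr (eq_neg_of_add_eq_zero_left h))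
  have hsq : ∀ u v : Fin 4 → F, W0 T s u → W0 T s v → H u v ≠ 0 → H u v * H u v = 1 := by
    intro u v hu hv h0
    rcases cube u v hu hv with h | h | h
    · exact absurd h h0
    · rw [h]; ring
    · rw [h]; ring
  have s1 := D.herm_symm hw.tf w1.tf
  have s2 := D.herm_symm hw.tf w2.tf
  obtain ⟨β, hβ⟩ : ∃ β, H w (s w) = β := ⟨_, rfl⟩
  obtain ⟨γ, hγ⟩ : ∃ γ, H w (s (s w)) = γ := ⟨_, rfl⟩
  rw [hβ] at s1
  rw [hγ] at s2
  rw [hβ, hγ] at t3
  rw [t3] at hw0
  have c3 := D.h3
  by_cases hγ0 : γ = 0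
  · rw [hγ0, add_zero] at t3 hw0
    rw [hγ0] at hγ
    refine ⟨w - s w, β, D.w0sub hw w1, ?_, ?_, hβ ▸ hsq _ _ hw w1 (by rwa [hβ])⟩
    · simp only [herm_sub_left, herm_sub_right D.hF, D.sherm, t3, hβ, s1]
      ring
    · simp only [D.ssub, herm_sub_left, herm_sub_right D.hF, D.sherm, t3, hβ, hγ]
      ring
  · by_cases hβ0 : β = 0
    · rw [hβ0, zero_add] at t3 hw0
      rw [hβ0] at hβ s1
      refine ⟨w - s (s w), -γ, D.w0sub hw w2, ?_, ?_, by
        rw [neg_mul_neg]
        exact hγ ▸ hsq _ _ hw w2 (by rwa [hγ])⟩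
      · simp only [herm_sub_left, herm_sub_right D.hF, D.sherm, t3, hγ, s2]
        ring
      · have k1 : H (s (s w)) (s w) = 0 := by rw [D.sherm, s1]
        simp only [D.ssub, herm_sub_left, herm_sub_right D.hF, k1, D.sherm, hβ, t1, hγ]
        ring
    · have e1 : β = γ := by
        have b1 := cube _ _ hw w1
        have g1 := cube _ _ hw w2
        rw [hβ] at b1
        rw [hγ] at g1
        rcases b1 with h | h | h
        · exact absurd h hβ0
        · rcases g1 with h' | h' | h'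
          · exact absurd h' hγ0
          · rw [h, h']
          · exact absurd (by rw [h, h']; ring) hw0
        · rcases g1 with h' | h' | h'
          · exact absurd h' hγ0
          · exact absurd (by rw [h, h']; ring) hw0
          · rw [h, h']
      rw [← e1] at hγ t3 s2
      refine ⟨w + s w, -β, D.w0add hw w1, ?_, ?_, by
        rw [neg_mul_neg]
        exact hβ ▸ hsq _ _ hw w1 (by rwa [hβ])⟩
      · simp only [herm_add_left, herm_add_right D.hF, D.sherm, t3, hβ, s1]
        linear_combination (2 * β) * c3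
      · simp only [D.sadd, herm_add_left, herm_add_right D.hF, D.sherm, t3, hβ, hγ]
        linear_combination (2 * β) * c3

/-- Siegel transformations of `V₀` commute with `T` -/
theorem T_siegel {u w : Fin 4 → F} {μ : F} (h : IsSiegel 3 u w μ) (hu : T u = u) (hw : T w = w) (hμ : μ ^ 3 = μ) (v) :
    T (act (siegel D.hF u w μ h) v) = act (siegel D.hF u w μ h) (T v) := by
  have k1 : H (T v) u = (H v u) ^ 3 := by
    have h1 := D.Therm v u
    rwa [hu] at h1
  have k2 : H (T v) w = (H v w) ^ 3 := by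
    have h1 := D.Therm v w
    rwa [hw] at h1
  rw [act_siegel, act_siegel, D.Tadd, D.Tadd, D.Tsmul, D.Tsmul, hu, hw, sub_pow_q D.hF, mul_pow, hμ, k1, k2]

/-- **the commutator of a Siegel transformation and `s`** -/
theorem key {e : Fin 4 → F} {a : F} (hW : W0 T s e) (h0 : H e e = 0) (ha : H e (s e) = a) (haa : a * a = 1) :
    ∃ (h1 : IsSiegel 3 e (a • (s (s e) - s (s (s e)))) a)
      (h2 : IsSiegel 3 (s e - s (s e) + s (s (s e))) (a • (s e - e)) a),
      ∀ v, act (siegel D.hF _ _ _ h1) (s v) = act (siegel D.hF _ _ _ h2) (s (act (siegel D.hF _ _ _ h1) v)) := by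
  obtain ⟨t1, t2, t3⟩ := D.tab hW
  have W1 := D.w0s hW
  have W2 := D.w0s W1
  have W3 := D.w0s W2
  have W4 := D.w0s W3
  have c3 := D.h3
  have ha3 : a ^ 3 = a := by linear_combination a * haa
  have hb : H e (s (s e)) = -a := by
    rw [h0, ha] at t3
    linear_combination -t3
  rw [hb] at t1
  rw [ha] at t2
  -- the table
  have m01 := ha
  have m02 := hb
  have m03 := t1
  have m04 := t2
  have m10 : H (s e) e = a := by rw [D.herm_symm hW.tf W1.tf, m01]
  have m20 : H (s (s e)) e = -a := by rw [D.herm_symm hW.tf W2.tf, m02]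
  have m30 : H (s (s (s e))) e = -a := by rw [D.herm_symm hW.tf W3.tf, m03]
  have m40 : H (s (s (s (s e)))) e = a := by rw [D.herm_symm hW.tf W4.tf, m04]
  have m11 : H (s e) (s e) = 0 := by rw [D.sherm, h0]
  have m12 : H (s e) (s (s e)) = a := by rw [D.sherm, m01]
  have m13 : H (s e) (s (s (s e))) = -a := by rw [D.sherm, m02]
  have m14 : H (s e) (s (s (s (s e)))) = -a := by rw [D.sherm, m03]
  have m21 : H (s (s e)) (s e) = a := by rw [D.sherm, m10]
  have m22 : H (s (s e)) (s (s e)) = 0 := by rw [D.sherm, m11]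
  have m23 : H (s (s e)) (s (s (s e))) = a := by rw [D.sherm, m12]
  have m31 : H (s (s (s e))) (s e) = -a := by rw [D.sherm, m20]
  have m32 : H (s (s (s e))) (s (s e)) = a := by rw [D.sherm, m21]
  have m33 : H (s (s (s e))) (s (s (s e))) = 0 := by rw [D.sherm, m22]
  have m41 : H (s (s (s (s e)))) (s e) = -a := by rw [D.sherm, m30]
  have m42 : H (s (s (s (s e)))) (s (s e)) = -a := by rw [D.sherm, m31]
  have m43 : H (s (s (s (s e)))) (s (s (s e))) = a := by rw [D.sherm, m32]
  have h1 : IsSiegel 3 e (a • (s (s e) - s (s (s e)))) a := by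
    refine ⟨h0, ?_, ?_⟩
    · rw [herm_smul_left, herm_sub_left, m20, m30]
      ring
    · rw [herm_smul_left, herm_smul_right, herm_sub_left, herm_sub_right D.hF, herm_sub_right D.hF, m22, m23, m32, m33,
        ha3]
      linear_combination (-2 * a) * haa
  have h2 : IsSiegel 3 (s e - s (s e) + s (s (s e))) (a • (s e - e)) a := by
    refine ⟨?_, ?_, ?_⟩
    · simp only [herm_add_left, herm_sub_left, herm_add_right D.hF, herm_sub_right D.hF, m11, m12, m13, m21, m22, m23,
        m31, m32, m33]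
      linear_combination (-2 * a) * c3
    · simp only [herm_smul_left, herm_sub_left, herm_add_right D.hF, herm_sub_right D.hF, m11, m12, m13,
        m01, m02, m03]
      linear_combination (-a * a) * c3
    · rw [herm_smul_left, herm_smul_right, herm_sub_left, herm_sub_right D.hF, herm_sub_right D.hF, m11, m10, m01, h0,
        ha3]
      linear_combination (-2 * a) * haa
  refine ⟨h1, h2, fun v => ?_⟩
  -- the values of the form
  have k0 : H (s v) e = H v (s (s (s (s e)))) := by rw [← D.sherm v, D.s5]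
  have hsum := congrArg (fun x => H v x) hW.sum
  simp only [herm_add_right D.hF, herm_zero_right D.hF] at hsum
  obtain ⟨z0, hz0⟩ : ∃ z, H v e = z := ⟨_, rfl⟩
  obtain ⟨z1, hz1⟩ : ∃ z, H v (s e) = z := ⟨_, rfl⟩
  obtain ⟨z2, hz2⟩ : ∃ z, H v (s (s e)) = z := ⟨_, rfl⟩
  obtain ⟨z3, hz3⟩ : ∃ z, H v (s (s (s e))) = z := ⟨_, rfl⟩
  have hz4 : H v (s (s (s (s e)))) = -z0 - z1 - z2 - z3 := by
    rw [hz0, hz1, hz2, hz3] at hsum
    linear_combination hsum
  rw [hz4] at k0
  have k1 : H (s v) (s e) = z0 := by rw [D.sherm, hz0]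
  have k2 : H (s v) (s (s e)) = z1 := by rw [D.sherm, hz1]
  have k3 : H (s v) (s (s (s e))) = z2 := by rw [D.sherm, hz2]
  have he4 : s (s (s (s e))) = -e - s e - s (s e) - s (s (s e)) := by
    have := hW.sum
    rw [← sub_eq_zero]
    rw [← this]
    abel
  -- `y = E₁ v`
  have hy : s (act (siegel D.hF _ _ _ h1) v) = s v + z0 • (a • (s (s (s e)) - s (s (s (s e))))) +
      (a * z0 - a * (z2 - z3)) • s e := by
    rw [act_siegel, D.sadd, D.sadd, D.ssmul, D.ssmul, D.ssmul, D.ssub, hz0, herm_smul_right, ha3, herm_sub_right D.hF,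
      hz2, hz3]
  have hA : H (s (act (siegel D.hF _ _ _ h1) v)) (s e - s (s e) + s (s (s e))) = -z0 - z1 + z3 := by
    rw [hy]
    simp only [herm_smul_left, herm_add_left, herm_sub_left, herm_add_right D.hF, herm_sub_right D.hF, m11, m12, m13,
      m31, m32, m33, m41, m42, m43, k1, k2, k3]
    linear_combination (-(5 : F) * z0 + 2 * z2 - 2 * z3) * haa + (-z0 + z2 - z3) * c3
  have hB : H (s (act (siegel D.hF _ _ _ h1) v)) (a • (s e - e)) = a * (z1 - z2) := by
    rw [hy, herm_smul_right, ha3]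
    simp only [herm_smul_left, herm_add_left, herm_sub_left, herm_sub_right D.hF, m11, m10, m30, m31, m40, m41, k0, k1]
    linear_combination (a * (z0 + z2 - z3)) * haa + a * (z0 + z2) * c3
  rw [act_siegel D.hF h2, hA, hB, hy, act_siegel, k0, herm_smul_right, ha3, herm_sub_right D.hF, k2, k3, he4]
  rw [← sub_eq_zero]
  have e : s v + (-z0 - z1 - z2 - z3) • (a • (s (s e) - s (s (s e)))) +
        (a * (-z0 - z1 - z2 - z3) - a * (z1 - z2)) • e -
      (s v + z0 • (a • (s (s (s e)) - (-e - s e - s (s e) - s (s (s e))))) + (a * z0 - a * (z2 - z3)) • s e +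
        (-z0 - z1 + z3) • (a • (s e - e)) +
        (a * (-z0 - z1 + z3) - a * (z1 - z2)) • (s e - s (s e) + s (s (s e)))) =
      (3 : F) • ((a * (-z0 - z1)) • e + (a * (z1 - z3)) • s e - (a * (z0 + z1)) • s (s e) +
        (a * z1) • s (s (s e))) := by
    module
  rw [e, c3, zero_smul]

end Dat

/-- (MV) for two elements -/
theorem mvstep {G Ω : Type*} [Group G] [MulAction G Ω] {x y g t : G} (hcov : ∀ ω : Ω, x • ω = ω ∨ y • ω = ω)
    (hxg : x * g = g * x) (hgy : g * y = t * (y * g)) (ω : Ω) : x • ω = ω ∨ t • ω = ω := by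
  by_cases hxω : x • ω = ω
  · exact Or.inl hxω
  · right
    have e1 : y • ω = ω := (hcov ω).resolve_left hxω
    have e2 : y • g⁻¹ • ω = g⁻¹ • ω := by
      refine (hcov _).resolve_left fun h => hxω ?_
      have h1 : g • (x • g⁻¹ • ω) = ω := by rw [h, smul_inv_smul]
      rwa [← mul_smul, ← hxg, mul_smul, smul_inv_smul] at h1
    have h2 : t = g * y * g⁻¹ * y⁻¹ := by
      rw [hgy]
      group
    have e3 : y⁻¹ • ω = ω := by rw [inv_smul_eq_iff, e1]
    rw [h2, mul_smul, e3, mul_smul, mul_smul, e2, smul_inv_smul]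

/-- the abstract end of the proof -/
theorem fin {G Ω : Type*} [Group G] [Nonempty Ω] [MulAction G Ω] {N : Subgroup G} (U : UEnv G Ω N F 4 3)
    {x y : G} (hcov : ∀ ω : Ω, x • ω = ω ∨ y • ω = ω) (D : Dat T s) (hy : U.Lft y s)
    (hx : ∀ σ σ' : SU 4 F 3, (∀ v, T (act σ v) = act σ' (T v)) → x * U.el σ * x⁻¹ = U.el σ') : False := by
  obtain ⟨e, a, hW, h0, ha, haa⟩ := D.exists_e
  have ha3 : a ^ 3 = a := by linear_combination a * haa
  obtain ⟨h1, h2, hkey⟩ := D.key hW h0 ha haa
  have hF : U.hF = D.hF := rfl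
  have W1 := D.w0s hW
  have W2 := D.w0s W1
  have W3 := D.w0s W2
  set u := s e - s (s e) + s (s (s e)) with hu
  set w := a • (s e - e) with hw
  have hTu : T u = u := by rw [hu, D.Tadd, D.Tsub, W1.tf, W2.tf, W3.tf]
  have hTw : T w = w := by rw [hw, D.Tsmul, D.Tsub, W1.tf, hW.tf, ha3]
  have hTw1 : T (a • (s (s e) - s (s (s e)))) = a • (s (s e) - s (s (s e))) := by
    rw [D.Tsmul, D.Tsub, W2.tf, W3.tf, ha3]
  have m01 := ha
  have m02 : H e (s (s e)) = -a := by
    have := (D.tab hW).2.2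
    rw [h0, ha] at this
    linear_combination -this
  have m03 : H e (s (s (s e))) = -a := by rw [(D.tab hW).1, m02]
  have m10 : H (s e) e = a := by rw [D.herm_symm hW.tf W1.tf, m01]
  have m20 : H (s (s e)) e = -a := by rw [D.herm_symm hW.tf W2.tf, m02]
  have m30 : H (s (s (s e))) e = -a := by rw [D.herm_symm hW.tf W3.tf, m03]
  have u1 : H u (s e) = -a - a := by
    rw [hu, herm_add_left, herm_sub_left, D.sherm, D.sherm, D.sherm, h0, m10, m20]
    ring
  have u0 : H u e = a := by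
    rw [hu, herm_add_left, herm_sub_left, m10, m20, m30]
    ring
  have w0 : H w e = 1 := by
    rw [hw, herm_smul_left, herm_sub_left, m10, h0, sub_zero, haa]
  have w1 : H w (s e) = -1 := by
    rw [hw, herm_smul_left, herm_sub_left, D.sherm, h0, m01]
    linear_combination -haa
  have ha0 : a ≠ 0 := by
    rintro rfl
    rw [mul_zero] at haa
    exact zero_ne_one haa
  have hu0 : u ≠ 0 := by
    intro h
    rw [h, herm_zero_left] at u0
    exact ha0 u0.symm
  have hwu : ∀ c : F, w ≠ c • u := by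
    intro c hc
    rw [hc, herm_smul_left, u0] at w0
    rw [hc, herm_smul_left, u1] at w1
    apply one_ne_zero (α := F)
    linear_combination (-2 : F) * w0 - w1
  -- (1) `x` commutes with the Siegel transformations of `V₀`
  have hxg := hx _ _ (D.T_siegel h1 hW.tf hTw1 ha3)
  have hxy := hx _ _ (D.T_siegel h2 hTu hTw ha3)
  obtain ⟨g, hg⟩ : ∃ g, U.el (siegel D.hF e (a • (s (s e) - s (s (s e)))) a h1) = g := ⟨_, rfl⟩
  obtain ⟨t, ht⟩ : ∃ t, U.el (siegel D.hF u w a h2) = t := ⟨_, rfl⟩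
  have hgy : g * y = t * (y * g) := by
    rw [← hg, ← ht]
    refine UEnv.Lft.inj ((U.lft_el _).mul hy) (?_ : U.Lft _ _)
    have e1 := (U.lft_el (siegel D.hF u w a h2)).mul (hy.mul (U.lft_el (siegel D.hF e (a • (s (s e) - s (s (s e)))) a h1)))
    have e2 : (fun v => act (siegel D.hF e (a • (s (s e) - s (s (s e)))) a h1) (s v)) = fun v =>
        act (siegel D.hF u w a h2) (s (act (siegel D.hF e (a • (s (s e) - s (s (s e)))) a h1) v)) := funext hkey
    rw [e2]
    exact e1
  rw [hg] at hxg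
  rw [ht] at hxy
  -- (2) the cover `x`, `t`
  have cov2 : ∀ ω : Ω, x • ω = ω ∨ t • ω = ω := mvstep hcov (mul_inv_eq_iff_eq_mul.1 hxg) hgy
  have hxt : x * t = t * x := mul_inv_eq_iff_eq_mul.1 hxy
  -- (3) transvections
  obtain ⟨ν, hν0, hν⟩ := exists_trace_zero_ne D.hF
  have huu : H u u = 0 := h2.iso
  have hν' : -ν + (-ν) ^ 3 = 0 := by linear_combination -hν
  have hνν : (ν + ν) + (ν + ν) ^ 3 = 0 := by
    rw [add_pow_q D.hF]
    linear_combination 2 * hν
  obtain ⟨c, hc⟩ : ∃ c, U.el (transv D.hF u huu ν hν) = c := ⟨_, rfl⟩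
  have hxc : x * c * x⁻¹ = c⁻¹ := by
    rw [← hc, hx _ (transv D.hF u huu (-ν) hν'), ← map_inv]
    · congr 1
      rw [eq_inv_iff_mul_eq_one, transv_mul]
      have h0' : (0 : F) + 0 ^ 3 = 0 := by ring
      rw [← transv_zero D.hF huu h0']
      congr 1
      ring
    · intro v
      have k1 : H (T v) u = (H v u) ^ 3 := by
        have h1 := D.Therm v u
        rwa [hTu] at h1
      rw [act_transv, act_transv, D.Tadd, D.Tsmul, hTu, k1, mul_pow]
      congr 2
      linear_combination (H v u) ^ 3 * hν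
  have hct : t * c = c * t := by
    rw [← hc, ← ht]
    exact UEnv.Q_comm (hu := huu) hν (UEnv.siegel_mem_Q h2)
  -- (4) the cover `t`, `c²`
  have cov3 : ∀ ω : Ω, t • ω = ω ∨ (c * c) • ω = ω := by
    refine mvstep (fun ω => (cov2 ω).symm) hct ?_
    have h1 : x * c = c⁻¹ * x := mul_inv_eq_iff_eq_mul.1 hxc
    rw [h1]
    group
  have hcc : c * c = U.el (transv D.hF u huu (ν + ν) hνν) := by
    rw [← hc, ← map_mul, transv_mul]
  have hν2 : ν + ν ≠ 0 := by
    intro h
    apply hν0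
    linear_combination -h + ν * D.h3
  rw [hcc] at cov3
  -- (5) the end
  refine not_cov_one U.env (U := U.Q u huu) (fun ω => (cov3 ω).symm) (fun y hy => UEnv.Q_comm hνν hy)
    (U.el_transv_ne huu hu0 hνν hν2) ?_
  obtain ⟨b, hb⟩ := exists_sub_pow D.hF hνν
  obtain ⟨z, hz1, hz2⟩ := exists_perp_eq D.hF hwu b
  obtain ⟨κ, hκ⟩ := exists_mu D.hF huu hz1
  have h5 := mem_cmm (U := U.Q u huu) (x := t) (UEnv.siegel_mem_Q (U := U) (hu := huu) hκ)
  rw [← ht, ← map_inv, ← map_inv, ← map_mul, ← map_mul, ← map_mul] at h5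
  rw [siegel_comm D.hF hκ h2 hνν (by rw [herm_swap D.hF z, hz2, hb]), ht] at h5
  exact h5

end G43

theorem graph43 : GraphFourThree := by
  intro G Ω _ _ _ _ _ N F _ _ n q U ι _ x f r hfam hcov hP
  obtain ⟨rfl, rfl, i0, j0, T, hT, ⟨v, hTv, hv⟩, hr5, hall⟩ := hP
  have c3 : (3 : F) = 0 := G43.three_eq_zero U.hF
  have hj0 : j0 ≠ i0 := by
    rintro rfl
    have := hT.r2
    omega
  obtain ⟨ε, hε, hherm⟩ := hT.herm
  have hε1 : ε = 1 := by
    rcases hε with h | h
    · exact h
    · exfalso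
      have h1 := hherm v v
      rw [hTv, herm_self_pow U.hF, h] at h1
      apply hv
      linear_combination -h1 + hermForm 4 F 3 v v * c3
  obtain ⟨ρ, hρ1, hρ2⟩ := UEnv.Lft.ind (hfam.lft j0) |>.exists_rho
  have hlin := hT.lin j0 hj0
  have hf0 : ∀ v, f j0 v = 0 → v = 0 := by
    intro v hv
    apply Ind.injective (hfam.lft j0)
    rw [hv, Ind.map_zero (hfam.lft j0)]
  have hv0 : v ≠ 0 := by
    rintro rfl
    exact hv (herm_zero_left _)
  have hρ : ∀ c, ρ c = c := by
    intro c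
    have h1 := hlin c v
    rw [hρ1] at h1
    have h2 : (ρ c - c) • f j0 v = 0 := by rw [sub_smul, h1, sub_self]
    rcases smul_eq_zero.1 h2 with h | h
    · exact sub_eq_zero.1 h
    · exact absurd (hf0 v h) hv0
  have hne : x j0 ≠ 1 := hfam.pf.ne j0
  -- `s ^ 5 = 1`
  have hs5 : ∀ v, (f j0)^[5] v = v := by
    have hp := hfam.pf.pow j0
    rw [hr5] at hp
    obtain ⟨c, hc⟩ := ((hfam.lft j0).pow 5).eq_one_iff.1 hp
    obtain ⟨k, hk⟩ := hfam.ord j0
    rw [hr5] at hk
    have hit : ∀ m v, (f j0)^[5 * m] v = c ^ m • v := by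
      intro m
      induction m with
      | zero => intro v; simp
      | succ m ih =>
        intro v
        rw [Nat.mul_succ, Function.iterate_add_apply, hc, ih, smul_smul, pow_succ]
    have hcv : c ^ 5 ^ k = 1 := by
      have h1 : (f j0)^[5 * 5 ^ k] v = v := by
        rw [← pow_succ']
        rw [pow_succ, Function.iterate_mul]
        exact Function.iterate_fixed (hk v) 5
      rw [hit] at h1
      have h2 : (c ^ 5 ^ k - 1) • v = 0 := by rw [sub_smul, h1, one_smul, sub_self]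
      exact sub_eq_zero.1 ((smul_eq_zero.1 h2).resolve_right hv0)
    have hc0 : c ≠ 0 := by
      rintro rfl
      rw [zero_pow (by positivity)] at hcv
      exact zero_ne_one hcv
    have hc8 : c ^ 8 = 1 := by
      have h1 := FiniteField.pow_card_sub_one_eq_one c hc0
      rw [U.hF] at h1
      exact h1
    have hc1 : c = 1 := by
      have h1 : orderOf c ∣ 5 ^ k := orderOf_dvd_of_pow_eq_one hcv
      have h2 : orderOf c ∣ 8 := orderOf_dvd_of_pow_eq_one hc8
      have h3 : orderOf c ∣ 1 := by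
        have h4 : Nat.Coprime (5 ^ k) 8 := Nat.Coprime.pow_left k (by norm_num)
        rw [← h4]
        exact Nat.dvd_gcd h1 h2
      exact orderOf_eq_one_iff.1 (Nat.dvd_one.1 h3)
    intro v
    rw [hc, hc1, one_smul]
  have D : G43.Dat T (f j0) :=
    { hF := U.hF
      Tadd := hT.add
      Tsmul := hT.smul
      TT := hT.TT
      Therm := fun u v => by rw [hherm, hε1, one_mul]
      sadd := Ind.map_add (hfam.lft j0)
      ssmul := hlin
      sherm := fun u v => by rw [hρ2, hρ]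
      s5 := hs5
      sT := hT.comm j0 hj0
      sne := by
        by_contra hcon
        push Not at hcon
        exact hne ((hfam.lft j0).eq_one_iff.2 ⟨1, fun v => by rw [hcon, one_smul]⟩) }
  refine G43.fin (Ω := Ω) U (x := x i0) (y := x j0) (fun ω => ?_) D (hfam.lft j0) ?_
  · obtain ⟨i, hi⟩ := hcov ω
    rcases hall i with rfl | rfl
    · exact Or.inl hi
    · exact Or.inr hi
  · intro σ σ' h
    obtain ⟨b, hb0, hb⟩ := hT.eq
    apply (hfam.lft i0).conj_el
    intro v
    have h1 := h v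
    rw [hb, hb, act_smul] at h1
    exact smul_right_injective _ hb0 h1

end Cfsg.Agent.H188.RC
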