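import Cfsg.Agent.H188.RC.InvSL
import Cfsg.Agent.H195.RC.TwRoot
import Cfsg.Agent.H950.Quad

/-!
# S3510, type iii, box INV (C), part 2: an involution of the twisted product fixing the unit (helper188)

`aut_of_tw` : a triple for the twisted product fixing the unit comes from an octonion automorphism;
`exists_phi` : `Fix t` is moved to `H0` by an octonion automorphism.
-/

set_option autoImplicit false
open Cfsg

namespace Cfsg.Agent.H188.RC.Inv

open Module QuadraticMap Cfsg.Agent.LieClassical.OrthCore Cfsg.Agent.LieClassical.OrthTrans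
  Cfsg.Agent.ClassicalGeometry.OrthSemi Cfsg.Agent.LieClassical.QuadForms
  Cfsg.Agent.ClassicalGeometry.TrialityOct Cfsg.Agent.ClassicalGeometry.Triality
  Cfsg.Agent.H198.TriBase Cfsg.Agent.H752.SemiNormal Cfsg.Agent.H198.TriDia
open Cfsg.Agent.H188.RC.IDNormal Cfsg.Agent.H195.RC

variable {F : Type} [Field F]

/-- a linear isometry fixing the unit commutes with conjugation -/
theorem conj_comm {m : V8 F → V8 F} (hadd : ∀ x y, m (x - y) = m x - m y) (hsmul : ∀ (c : F) x, m (c • x) = c • m x)
    (hp : ∀ x, polar (plusForm 4 F) (m x) (one8 F) = polar (plusForm 4 F) x (one8 F)) (h1 : m (one8 F) = one8 F)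
    (x : V8 F) : m (oconj x) = oconj (m x) := by
  rw [oconj_eq, oconj_eq, hadd, hsmul, h1, hp]

theorem tw_one_right {φ : F ≃+* F} (h : ∀ a, φ (φ (φ a)) = a) (u : V8 F) :
    tw φ u (one8 F) = oconj (cf φ (cf φ u)) := by
  have h1 : cf φ (one8 F) = one8 F := by
    funext i
    rcases i with i | i <;> fin_cases i <;> simp [cf, one8]
  rw [tw_eq h, h1, oconj_one8, omul_one]

theorem tw_one_left {φ : F ≃+* F} (h : ∀ a, φ (φ (φ a)) = a) (u : V8 F) :
    tw φ (one8 F) u = oconj (cf φ u) := by
  have h1 : cf φ (one8 F) = one8 F := by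
    funext i
    rcases i with i | i <;> fin_cases i <;> simp [cf, one8]
  rw [tw_eq h, h1, h1, oconj_one8, one_omul]

theorem oconj_inj {x y : V8 F} (h : oconj x = oconj y) : x = y := by
  rw [← oconj_oconj x, h, oconj_oconj]

/-- **triples fixing the unit** -/
theorem aut_of_tw {φ : F ≃+* F} (h : ∀ a, φ (φ (φ a)) = a) {n n' n'' : V8 F → V8 F}
    (hn : ∀ u w, n (tw φ u w) = tw φ (n' u) (n'' w)) (h1' : n' (one8 F) = one8 F) (h1'' : n'' (one8 F) = one8 F)
    (hc : ∀ x, n (oconj x) = oconj (n x)) :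
    (∀ u, n (cf φ (cf φ u)) = cf φ (cf φ (n' u))) ∧ (∀ u, n (cf φ u) = cf φ (n'' u)) ∧
      ∀ x y, n (omul x y) = omul (n x) (n y) := by
  have e1 : ∀ u, n (cf φ (cf φ u)) = cf φ (cf φ (n' u)) := by
    intro u
    have := hn u (one8 F)
    rw [h1'', tw_one_right h, tw_one_right h, hc] at this
    exact oconj_inj this
  have e2 : ∀ u, n (cf φ u) = cf φ (n'' u) := by
    intro u
    have := hn (one8 F) u
    rw [h1', tw_one_left h, tw_one_left h, hc] at this
    exact oconj_inj this
  refine ⟨e1, e2, fun x y => ?_⟩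
  have e3 := hn (cf φ (oconj x)) (cf φ (cf φ (oconj y)))
  rw [tw_eq h, tw_eq h, cf3 h, cf3 h, oconj_oconj, oconj_oconj, ← e1, ← e2, cf3 h, cf3 h, hc, hc, oconj_oconj,
    oconj_oconj] at e3
  exact e3

/-- octonion automorphisms give triples of the twisted product -/
theorem tw_of_aut {φ : F ≃+* F} (h : ∀ a, φ (φ (φ a)) = a) {m : V8 F → V8 F}
    (hm : ∀ x y, m (omul x y) = omul (m x) (m y)) (hc : ∀ x, m (oconj x) = oconj (m x)) (u w : V8 F) :
    m (tw φ u w) = tw φ (cf φ (m (cf φ (cf φ u)))) (cf φ (cf φ (m (cf φ w)))) := by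
  rw [tw_eq h, tw_eq h, cf3 h, cf3 h, hm, hc, hc]

/-! ### The fixed space of an involution -/

section inv

variable {t : V8 F ≃ₗ[F] V8 F}

/-- the fixed space -/
def Fx (t : V8 F ≃ₗ[F] V8 F) : Submodule F (V8 F) where
  carrier := {v | t v = v}
  add_mem' := by
    intro x y hx hy
    change t (x + y) = x + y
    rw [map_add, show t x = x from hx, show t y = y from hy]
  zero_mem' := map_zero t
  smul_mem' := by
    intro c x hx
    change t (c • x) = c • x
    rw [map_smul, show t x = x from hx]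

theorem mem_Fx {v : V8 F} : v ∈ Fx t ↔ t v = v := Iff.rfl

/-- the `-1`-space -/
def Mx (t : V8 F ≃ₗ[F] V8 F) : Submodule F (V8 F) where
  carrier := {v | t v = -v}
  add_mem' := by
    intro x y hx hy
    change t (x + y) = -(x + y)
    rw [map_add, show t x = -x from hx, show t y = -y from hy]; abel
  zero_mem' := by
    change t 0 = -0
    rw [map_zero, neg_zero]
  smul_mem' := by
    intro c x hx
    change t (c • x) = -(c • x)
    rw [map_smul, show t x = -x from hx, smul_neg]

theorem polar_t (hiso : ∀ v, plusForm 4 F (t v) = plusForm 4 F v) (x y : V8 F) :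
    polar (plusForm 4 F) (t x) (t y) = polar (plusForm 4 F) x y := by
  simp only [polar, ← map_add, hiso]

theorem half (h2 : (2 : F) ≠ 0) (v : V8 F) : v = (2 : F)⁻¹ • (v + t v) + (2 : F)⁻¹ • (v - t v) := by
  rw [← smul_add, add_add_sub_cancel, ← two_smul F v, smul_smul, inv_mul_cancel₀ h2, one_smul]

theorem plus_mem (ht : ∀ v, t (t v) = v) (v : V8 F) : v + t v ∈ Fx t := by
  rw [mem_Fx, map_add, ht, add_comm]

theorem minus_mem (ht : ∀ v, t (t v) = v) (v : V8 F) : v - t v ∈ Mx t := by
  change t (v - t v) = -(v - t v)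
  rw [map_sub, ht, neg_sub]

theorem perp (h2 : (2 : F) ≠ 0) (hiso : ∀ v, plusForm 4 F (t v) = plusForm 4 F v) {x y : V8 F} (hx : x ∈ Fx t)
    (hy : y ∈ Mx t) : polar (plusForm 4 F) x y = 0 := by
  have h1 := polar_t hiso x y
  rw [show t x = x from hx, show t y = -y from hy] at h1
  have h3 : polar (plusForm 4 F) x (-y) = -polar (plusForm 4 F) x y := by
    simp only [polar8, Pi.neg_apply]; ring
  rw [h3] at h1
  have h4 : 2 * polar (plusForm 4 F) x y = 0 := by linear_combination -h1
  exact (mul_eq_zero.1 h4).resolve_left h2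

theorem nondeg_Fx (h2 : (2 : F) ≠ 0) (ht : ∀ v, t (t v) = v) (hiso : ∀ v, plusForm 4 F (t v) = plusForm 4 F v)
    {x : V8 F} (hx : x ∈ Fx t) (h : ∀ y ∈ Fx t, polar (plusForm 4 F) x y = 0) : x = 0 := by
  apply eq_zero_of_pol
  intro v
  rw [half (t := t) h2 v, pol_add_right, pol_smul_right, pol_smul_right, h _ (plus_mem ht v),
    perp h2 hiso hx (minus_mem ht v)]
  ring

theorem nondeg_Mx (h2 : (2 : F) ≠ 0) (ht : ∀ v, t (t v) = v) (hiso : ∀ v, plusForm 4 F (t v) = plusForm 4 F v)
    {x : V8 F} (hx : x ∈ Mx t) (h : ∀ y ∈ Mx t, polar (plusForm 4 F) x y = 0) : x = 0 := by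
  apply eq_zero_of_pol
  intro v
  rw [half (t := t) h2 v, pol_add_right, pol_smul_right, pol_smul_right, h _ (minus_mem ht v), pol_symm x (v + t v),
    perp h2 hiso (plus_mem ht v) hx]
  ring

theorem compl (h2 : (2 : F) ≠ 0) (ht : ∀ v, t (t v) = v) : IsCompl (Fx t) (Mx t) := by
  constructor
  · rw [Submodule.disjoint_def]
    intro x hx hy
    have h1 : x = -x := (show t x = x from hx).symm.trans hy
    have h3 : (2 : F) • x = 0 := by
      rw [two_smul]
      nth_rw 2 [h1]
      exact add_neg_cancel x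
    exact (smul_eq_zero.1 h3).resolve_left h2
  · rw [codisjoint_iff, eq_top_iff]
    intro v _
    rw [half (t := t) h2 v]
    exact Submodule.add_mem_sup (Submodule.smul_mem _ _ (plus_mem ht v)) (Submodule.smul_mem _ _ (minus_mem ht v))

/-- the fixed space of an involutive octonion automorphism has dimension four -/
theorem finrank_Fx (h2 : (2 : F) ≠ 0) (ht : ∀ v, t (t v) = v) (hiso : ∀ v, plusForm 4 F (t v) = plusForm 4 F v)
    (hmul : ∀ x y, t (omul x y) = omul (t x) (t y)) (hne : t ≠ 1) : finrank F (Fx t) = 4 := by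
  -- a nonsingular vector of the `-1`-space
  obtain ⟨v, hv, hQ⟩ : ∃ v ∈ Mx t, plusForm 4 F v ≠ 0 := by
    by_contra hcon
    push Not at hcon
    apply hne
    apply LinearEquiv.ext
    intro v
    have h0 : v - t v = 0 := by
      apply nondeg_Mx h2 ht hiso (minus_mem ht v)
      intro y hy
      have h3 : plusForm 4 F (v - t v + y) = plusForm 4 F (v - t v) + plusForm 4 F y + polar (plusForm 4 F) (v - t v) y := by
        rw [polar]; ring
      rw [hcon _ ((Mx t).add_mem (minus_mem ht v) hy), hcon _ (minus_mem ht v), hcon _ hy] at h3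
      linear_combination -h3
    exact (sub_eq_zero.1 h0).symm
  have inj : ∀ x, omul v x = 0 → x = 0 := by
    intro x hx
    have h3 := oconj_omul_omul v x
    rw [hx] at h3
    have h4 : omul (oconj v) (0 : V8 F) = 0 := by
      have := omul_smul (0 : F) (oconj v) (0 : V8 F)
      rwa [zero_smul, zero_smul] at this
    rw [h4] at h3
    exact (smul_eq_zero.1 h3.symm).resolve_left hQ
  have htv : t v = -v := hv
  let f : Fx t →ₗ[F] Mx t :=
    { toFun := fun x => ⟨omul v x.1, by
        change t (omul v x.1) = -omul v x.1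
        rw [hmul, htv, show t x.1 = x.1 from x.2, ← neg_one_smul F v, smul_omul, neg_one_smul]⟩
      map_add' := fun x y => Subtype.ext (omul_add v x.1 y.1)
      map_smul' := fun c x => Subtype.ext (omul_smul c v x.1) }
  let g : Mx t →ₗ[F] Fx t :=
    { toFun := fun x => ⟨omul v x.1, by
        change t (omul v x.1) = omul v x.1
        rw [hmul, htv, show t x.1 = -x.1 from x.2, ← neg_one_smul F v, ← neg_one_smul F x.1, smul_omul, omul_smul,
          smul_smul]
        norm_num⟩
      map_add' := fun x y => Subtype.ext (omul_add v x.1 y.1)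
      map_smul' := fun c x => Subtype.ext (omul_smul c v x.1) }
  have hf : Function.Injective f := by
    intro x y hxy
    have h3 : omul v x.1 = omul v y.1 := congrArg Subtype.val hxy
    have h4 : omul v (x.1 - y.1) = 0 := by
      have := omul_add v (x.1 - y.1) y.1
      rw [sub_add_cancel, h3] at this
      exact (right_eq_add.1 this)
    exact Subtype.ext (sub_eq_zero.1 (inj _ h4))
  have hg : Function.Injective g := by
    intro x y hxy
    have h3 : omul v x.1 = omul v y.1 := congrArg Subtype.val hxy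
    have h4 : omul v (x.1 - y.1) = 0 := by
      have := omul_add v (x.1 - y.1) y.1
      rw [sub_add_cancel, h3] at this
      exact (right_eq_add.1 this)
    exact Subtype.ext (sub_eq_zero.1 (inj _ h4))
  have h3 := LinearMap.finrank_le_finrank_of_injective hf
  have h4 := LinearMap.finrank_le_finrank_of_injective hg
  have h5 := Submodule.finrank_add_eq_of_isCompl (compl (t := t) h2 ht)
  rw [Module.finrank_fintype_fun_eq_card, Fintype.card_sum, Fintype.card_fin] at h5
  omega

/-- **the fixed space is moved to `H0`** -/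
theorem exists_phi [Finite F] (h2 : (2 : F) ≠ 0) (ht : ∀ v, t (t v) = v)
    (hiso : ∀ v, plusForm 4 F (t v) = plusForm 4 F v)
    (hmul : ∀ x y, t (omul x y) = omul (t x) (t y)) (hne : t ≠ 1) (h1 : t (one8 F) = one8 F) :
    ∃ φ : G8 F, TriS φ φ φ ∧ IsSS (plusForm 4 F) (RingEquiv.refl F) 1 φ.1 ∧
      ∀ x, φ.1 x ∈ H237.RC.ID.H0 F ↔ x ∈ Fx t := by
  have hA4 := finrank_Fx h2 ht hiso hmul hne
  have hA1 : one8 F ∈ Fx t := h1
  have hAm : ∀ x ∈ Fx t, ∀ y ∈ Fx t, omul x y ∈ Fx t := by
    intro x hx y hy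
    rw [mem_Fx, hmul, show t x = x from hx, show t y = y from hy]
  -- a singular vector of trace zero
  let T : Fx t →ₗ[F] F :=
    { toFun := fun x => polar (plusForm 4 F) x.1 (one8 F)
      map_add' := fun x y => pol_add_left _ _ _
      map_smul' := fun c x => pol_smul_left _ _ _ }
  let β : LinearMap.ker T →ₗ[F] LinearMap.ker T →ₗ[F] F := LinearMap.mk₂ F
    (fun x y => x.1.1 (.inl 0) * y.1.1 (.inr 0) + x.1.1 (.inl 1) * y.1.1 (.inr 1) +
      x.1.1 (.inl 2) * y.1.1 (.inr 2) + x.1.1 (.inl 3) * y.1.1 (.inr 3))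
    (by intro x y z; simp only [Submodule.coe_add, Pi.add_apply]; ring)
    (by intro c x y; simp only [Submodule.coe_smul, Pi.smul_apply, smul_eq_mul]; ring)
    (by intro x y z; simp only [Submodule.coe_add, Pi.add_apply]; ring)
    (by intro c x y; simp only [Submodule.coe_smul, Pi.smul_apply, smul_eq_mul]; ring)
  have hk : 3 ≤ finrank F (LinearMap.ker T) := by
    have h3 := LinearMap.finrank_range_add_finrank_ker T
    have h4 : finrank F (LinearMap.range T) ≤ 1 := by
      have := Submodule.finrank_le (LinearMap.range T)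
      rwa [Module.finrank_self] at this
    rw [hA4] at h3
    omega
  have hk' : 2 * Fintype.card Unit < finrank F (LinearMap.ker T) := by
    rw [Fintype.card_unit]; omega
  obtain ⟨⟨⟨n, hn⟩, hnT⟩, hn0, hβ⟩ := H950.exists_common_isotropic (K := F) (A := LinearMap.ker T) (ι := Unit)
    (fun _ => β) hk'
  have hnz : n ≠ 0 := by
    rintro rfl
    exact hn0 rfl
  have hQn : plusForm 4 F n = 0 := by
    rw [norm8]
    exact hβ ()
  have htr : polar (plusForm 4 F) n (one8 F) = 0 := hnT
  obtain ⟨r, hr, hnr⟩ : ∃ r ∈ Fx t, polar (plusForm 4 F) n r = 1 := by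
    by_contra hcon
    push Not at hcon
    apply hnz
    apply nondeg_Fx h2 ht hiso hn
    intro y hy
    by_contra h0
    apply hcon ((polar (plusForm 4 F) n y)⁻¹ • y) ((Fx t).smul_mem _ hy)
    rw [pol_smul_right, inv_mul_cancel₀ h0]
  obtain ⟨hl1, hl0, hln, hnl⟩ := idem_facts hQn htr hnr
  have hcr : oconj r ∈ Fx t := by
    rw [oconj_eq]
    exact (Fx t).sub_mem ((Fx t).smul_mem _ hA1) hr
  obtain ⟨φ, hφ, hφl, -, -, f3⟩ := exists_frame (Fx t) hA4 hA1 hAm (hAm _ hn _ hcr) hn hr hl1 hl0 hln hnl hnr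
  exact ⟨φ, hφ, hφl, f3⟩

end inv

end Cfsg.Agent.H188.RC.Inv
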