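import Cfsg.Agent.H188.RC.InvC
import Cfsg.Agent.H510.Tri3.InvA
import Cfsg.Agent.H103.RC.InvD
import Cfsg.Agent.H103.RC.InvT

/-!
# S3510, type iii, box INV: final step (helper188)

`dead_one` : in characteristic `≠ 2` the twisted environment `T3` has no member of order two fixing the unit.
`dead_inv` : no member of order two.
-/

set_option autoImplicit false
open Cfsg

namespace Cfsg.Agent.H188.RC.Inv

open Module QuadraticMap MulAction
open Cfsg.Agent.LieClassical.OrthCore Cfsg.Agent.LieClassical.OrthTrans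
open Cfsg.Agent.LieClassical.OrthSimple Cfsg.Agent.ClassicalGeometry.OrthSemi
open Cfsg.Agent.ClassicalGeometry.OrthAut1 Cfsg.Agent.H106.RC Cfsg.Agent.H93.RC Cfsg.Agent.H566.RC
open Cfsg.Agent.LieClassical.QuadForms Cfsg.Agent.ClassicalGeometry.TrialityOct
open Cfsg.Agent.ClassicalGeometry.Triality Cfsg.Agent.ClassicalGeometry.TrialitySpaces
open Cfsg.Agent.H198.TriBase Cfsg.Agent.H198.TriAut Cfsg.Agent.H206.Balance Cfsg.Agent.H198.TriDia
open Cfsg.Agent.H198 Cfsg.Agent.H864.RC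
open Cfsg.Agent.LieClassical.SLTwoUnipotent (u l)
open Matrix (SpecialLinearGroup)
open Cfsg.Agent.UGT.U2.FOne.Orth (Four)
open Cfsg.Agent.H188.RC.IDNormal Cfsg.Agent.H195.RC

variable {F : Type} [Field F]

section env

variable {G Ω ι : Type} [Group G] [MulAction G Ω] {N : Subgroup G} {hG : Good (plusForm 4 F)}
  {κ : P8 F →* G} {s : F ≃+* F} {x₁ : G} {x : ι → G} {r : ι → ℕ} {g : ι → (V8 F ≃ₗ[F] V8 F)}

/-- the conjugate of `rho` -/
noncomputable def mX (φ : G8 F) (X : SpecialLinearGroup (Fin 2) F) : ↥(E (plusForm 4 F)) :=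
  conjE _ φ⁻¹ ((four F).rhoE X)

theorem mX_apply (φ : G8 F) (X : SpecialLinearGroup (Fin 2) F) (v : V8 F) :
    φ.1 ((mX φ X : V8 F ≃ₗ[F] V8 F) v) = (four F).rho X (φ.1 v) := by
  rw [mX, coe_conjE, conjLin_apply]
  have h1 : (φ⁻¹).1 = φ.1.symm := rfl
  have h2 : ((φ⁻¹).1⁻¹ : Equiv.Perm (V8 F)) v = φ.1 v := rfl
  rw [h2, h1]
  exact φ.1.apply_symm_apply _

/-- the embedding of `SL₂(F)` -/
noncomputable def fX (κ : P8 F →* G) (φ : G8 F) : SpecialLinearGroup (Fin 2) F →* G :=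
  κ.comp ((Psi (plusForm 4 F) φ⁻¹ : MulAut (P8 F)).toMonoidHom.comp (four F).rhoP)

theorem fX_apply (κ : P8 F →* G) (φ : G8 F) (X : SpecialLinearGroup (Fin 2) F) : fX κ φ X = up κ (mX φ X) := by
  change κ (Psi (plusForm 4 F) φ⁻¹ ((four F).rhoP X)) = _
  rw [Four.rhoP_apply, Psi_mk]
  rfl

theorem fX_inj (hG : Good (plusForm 4 F)) (hrp : Rp (plusForm 4 F) N κ) (φ : G8 F) : Function.Injective (fX κ φ) := by
  refine hrp.inj.comp (((Psi (plusForm 4 F) φ⁻¹ : MulAut (P8 F)).injective).comp ((four F).rhoP_injective hG))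

theorem mX_SM {t : V8 F ≃ₗ[F] V8 F} {φ : G8 F} (hφ : TriS φ φ φ) (hφt : ∀ x, φ.1 x ∈ H237.RC.ID.H0 F ↔ x ∈ Fx t)
    (X : SpecialLinearGroup (Fin 2) F) : SM t (mX φ X) := by
  refine ⟨fun a ha => ?_, fun x y => ?_⟩
  · apply φ.1.injective
    rw [mX_apply, rho_fix X ((hφt a).2 ha)]
  · apply φ.1.injective
    rw [mX_apply, hφ, hφ, mX_apply, mX_apply, rho_omul]

theorem exists_mX {t : V8 F ≃ₗ[F] V8 F} {φ : G8 F} (hφ : TriS φ φ φ)
    (hφt : ∀ x, φ.1 x ∈ H237.RC.ID.H0 F ↔ x ∈ Fx t) {m : ↥(E (plusForm 4 F))} (hm : SM t m) :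
    ∃ X : SpecialLinearGroup (Fin 2) F, m = mX φ X := by
  have h1 : ∀ v, (conjE _ φ m : V8 F ≃ₗ[F] V8 F) (φ.1 v) = φ.1 ((m : V8 F ≃ₗ[F] V8 F) v) := fun v => by
    rw [coe_conjE, conjLin_apply']
  obtain ⟨X, hX⟩ := exists_rho (m := (conjE _ φ m : V8 F ≃ₗ[F] V8 F)) (isom_E _) (by
    intro x y
    obtain ⟨x, rfl⟩ := φ.1.surjective x
    obtain ⟨y, rfl⟩ := φ.1.surjective y
    rw [← hφ, h1, h1, h1, hm.2, hφ]) (by
    intro v hv
    obtain ⟨v, rfl⟩ := φ.1.surjective v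
    rw [h1, hm.1 v ((hφt v).1 hv)])
  refine ⟨X, ?_⟩
  apply Subtype.ext
  apply LinearEquiv.ext
  intro v
  apply φ.1.injective
  rw [mX_apply, ← hX, h1]

/-- `n v = m v - v` for the transvections -/
theorem mX_u {φ : G8 F} (hφl : IsSS (plusForm 4 F) (RingEquiv.refl F) 1 φ.1) (c : F) (v : V8 F) :
    (mX φ (u c) : V8 F ≃ₗ[F] V8 F) v = v + c • ((mX φ (u 1) : V8 F ≃ₗ[F] V8 F) v - v) := by
  apply φ.1.injective
  rw [mX_apply, hφl.add, hφl.smul, hφl.sub, mX_apply, RingEquiv.refl_apply]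
  have h00 : ∀ a : F, (u a : SpecialLinearGroup (Fin 2) F).1 0 0 = 1 := fun a => by simp [u]
  have h01 : ∀ a : F, (u a : SpecialLinearGroup (Fin 2) F).1 0 1 = a := fun a => by simp [u]
  have h10 : ∀ a : F, (u a : SpecialLinearGroup (Fin 2) F).1 1 0 = 0 := fun a => by simp [u]
  have h11 : ∀ a : F, (u a : SpecialLinearGroup (Fin 2) F).1 1 1 = 1 := fun a => by simp [u]
  apply ext8 <;> simp only [Pi.add_apply, Pi.sub_apply, Pi.smul_apply, smul_eq_mul, rho_l0, rho_l1, rho_l2, rho_l3,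
    rho_r0, rho_r1, rho_r2, rho_r3, h00, h01, h10, h11] <;> ring

theorem norm_one8_ne : one8 F ≠ 0 := by
  intro h7
  have h8 := norm_one8 (F := F)
  rw [h7, QuadraticMap.map_zero] at h8
  exact zero_ne_one h8

/-- `x₁` does not centralise -/
theorem x1_nc (h : T3 hG N κ s Ω x₁ x r g) {t : V8 F ≃ₗ[F] V8 F} (h1 : t (one8 F) = one8 F)
    (hts : ∀ v, t (cf s v) = cf s (t v)) {φ : G8 F} (hφ : TriS φ φ φ)
    (hφl : IsSS (plusForm 4 F) (RingEquiv.refl F) 1 φ.1) (hφt : ∀ x, φ.1 x ∈ H237.RC.ID.H0 F ↔ x ∈ Fx t) :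
    ∃ m ∈ (fX κ φ).range, x₁ * m ≠ m * x₁ := by
  by_contra hcon
  push Not at hcon
  have key : ∀ (X : SpecialLinearGroup (Fin 2) F) v,
      (mX φ X : V8 F ≃ₗ[F] V8 F) (cf s v) = cf s ((mX φ X : V8 F ≃ₗ[F] V8 F) v) := by
    intro X v
    have hS := mX_SM (t := t) hφ hφt X
    have hS' := hS.fg h.cube hts
    have e1 := hcon (fX κ φ X) ⟨X, rfl⟩
    rw [← mul_inv_eq_iff_eq_mul, fX_apply, x1_conj h h1 hS] at e1
    have e2 := h.rp.inj e1
    obtain ⟨c, -, hc⟩ := sign_of_mk_eq hG e2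
    have h2 := hc (one8 F)
    rw [hS.1 _ h1, hS'.1 _ h1] at h2
    have h5 : c = 1 := by
      have h6 : (c - 1) • one8 F = 0 := by rw [sub_smul, one_smul, ← h2, sub_self]
      exact sub_eq_zero.1 ((smul_eq_zero.1 h6).resolve_right norm_one8_ne)
    have h7 := hc (cf s v)
    rw [h5, one_smul, conjE_fG h.cube, cf3 h.cube] at h7
    exact h7
  obtain ⟨c, hc⟩ : ∃ c : F, s c ≠ c := by
    by_contra hh
    push Not at hh
    exact h.ne (RingEquiv.ext hh)
  -- the transvection `u 1` is trivial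
  have hn : ∀ v, (mX φ (u 1) : V8 F ≃ₗ[F] V8 F) v - v = 0 := by
    intro v
    have e1 := key (u c) v
    rw [mX_u hφl c, mX_u hφl c v, cf_add, cf_smul, key (u 1)] at e1
    have e2 : cf s ((mX φ (u 1) : V8 F ≃ₗ[F] V8 F) v - v) = cf s ((mX φ (u 1) : V8 F ≃ₗ[F] V8 F) v) - cf s v := by
      funext i; exact map_sub s _ _
    rw [← e2] at e1
    have e3 := add_left_cancel e1
    have e4 : (s c - c) • cf s ((mX φ (u 1) : V8 F ≃ₗ[F] V8 F) v - v) = 0 := by
      rw [sub_smul, e3, sub_self]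
    have e5 := (smul_eq_zero.1 e4).resolve_left (sub_ne_zero.2 hc)
    have e6 := congrArg (fun z => cf s (cf s z)) e5
    simp only [cf3 h.cube] at e6
    rw [e6]
    funext i
    simp [cf]
  have h2 : mX φ (u 1 : SpecialLinearGroup (Fin 2) F) = 1 := by
    apply Subtype.ext
    apply LinearEquiv.ext
    intro v
    exact sub_eq_zero.1 (hn v)
  have h3 : fX κ φ (u 1) = 1 := by rw [fX_apply, h2, map_one]
  have h4 := (map_eq_one_iff _ (fX_inj hG h.rp φ)).1 h3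
  have h5 := congrArg (fun X : SpecialLinearGroup (Fin 2) F => X.1 0 1) h4
  simp [u] at h5

/-- (C) -/
theorem dead_one [Finite F] [Finite G] [Finite ι] [Nonempty Ω] (h : T3 hG N κ s Ω x₁ x r g)
    (hIH : IH (Nat.card N)) (hN : NoN Ω N) (h2 : (2 : F) ≠ 0) (i₀ : ι) (hi : r i₀ = 2)
    (h1 : g i₀ (one8 F) = one8 F) : False := by
  have : Fintype F := Fintype.ofFinite F
  set t := g i₀ with ht
  have htt : ∀ v, t (t v) = v := by
    have h3 := h.pow i₀
    rw [hi, pow_two] at h3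
    intro v
    exact congrArg (fun m : V8 F ≃ₗ[F] V8 F => m v) h3
  have hiso : ∀ v, plusForm 4 F (t v) = plusForm 4 F v := fun v => E_le_O (h.mem i₀).1 v
  have hc : ∀ v, t (oconj v) = oconj (t v) := conj_commE (m := ⟨t, (h.mem i₀).1⟩) h1
  obtain ⟨-, hts, hmul⟩ := aut_of_tw h.cube (n := t) (n' := t) (n'' := t) (h.mem i₀).2 h1 h1 hc
  obtain ⟨φ, hφ, hφl, hφt⟩ := exists_phi h2 htt hiso hmul (h.ne1 i₀) h1
  have hf := fX_inj hG h.rp φ
  -- the order of the field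
  obtain ⟨q0, hq0, hq, -⟩ := H256.RC.BQ h.cube h.ne
  have hcard : 9 < Fintype.card F := by
    rw [← Nat.card_eq_fintype_card, hq]
    have h3 : q0 ≠ 2 := by
      rintro rfl
      have h4 : ((Nat.card F : ℕ) : F) = 0 := by
        rw [Nat.card_eq_fintype_card]
        exact Nat.cast_card_eq_zero F
      rw [hq, Nat.cast_pow] at h4
      exact h2 (by exact_mod_cast pow_eq_zero_iff (n := 3) (by norm_num) |>.1 h4)
    have h4 : 3 ≤ q0 := by omega
    have h5 : 3 ^ 3 ≤ q0 ^ 3 := Nat.pow_le_pow_left h4 3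
    omega
  have hcard' : 3 < Fintype.card F := by omega
  have hMN : (fX κ φ).range ≤ N := by
    rintro _ ⟨X, rfl⟩
    rw [← h.rp.range]
    exact ⟨_, rfl⟩
  have hneg : (-1 : SpecialLinearGroup (Fin 2) F) ≠ 1 := by
    intro h3
    have h4 := congrArg (fun X : SpecialLinearGroup (Fin 2) F => X.1 0 0) h3
    have h5 : (-1 : F) = 1 := by simpa using h4
    apply h2
    linear_combination -h5
  have hne : (fX κ φ).range ≠ N := by
    intro h3
    have h4 : fX κ φ (-1) ∈ Subgroup.centralizer (N : Set G) := by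
      rw [Subgroup.mem_centralizer_iff]
      intro y hy
      rw [SetLike.mem_coe, ← h3] at hy
      obtain ⟨X, rfl⟩ := hy
      rw [← map_mul, ← map_mul]
      congr 1
      rw [neg_one_mul, mul_neg_one]
    rw [h.env.cent, Subgroup.mem_bot] at h4
    exact hneg ((map_eq_one_iff _ hf).1 h4)
  have hx1 := x1_nc h h1 hts hφ hφl hφt
  -- the element of order three
  let y : SpecialLinearGroup (Fin 2) F := ⟨!![0, -1; 1, -1], by rw [Matrix.det_fin_two_of]; ring⟩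
  have hy3 : y ^ 3 = 1 := by
    rw [pow_three]
    apply Subtype.ext
    change (!![0, -1; 1, -1] : Matrix (Fin 2) (Fin 2) F) * (!![0, -1; 1, -1] * !![0, -1; 1, -1]) = 1
    ext i j
    fin_cases i <;> fin_cases j <;> simp [Matrix.mul_apply, Fin.sum_univ_two]
  have hy1 : y ≠ 1 := by
    intro h3
    have h4 := congrArg (fun X : SpecialLinearGroup (Fin 2) F => X.1 0 0) h3
    simp [y] at h4
  refine H338.RC.n2 h hIH hN hMN hne (H31.RC.perf hcard' (fX κ φ)) (pr (fX κ φ) hf) (pr_surj _ hf) (pr_ker _ hf)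
    (Cfsg.Agent.TwoFusion.SLTwoFacts.isSimpleGroup_psl hcard') (H31.RC.psl_ncomm hcard')
    (Or.inl ⟨F, inferInstance, inferInstance, 2, le_rfl, fun _ => hcard', ⟨MulEquiv.refl _⟩⟩)
    (H31.RC.psl_not_exc hcard) ?_ ?_ hx1 (y := fX κ φ y) ⟨y, rfl⟩ (by rw [← map_pow, hy3, map_one]) ?_
  · apply norm_of_conj
    rintro _ ⟨X, rfl⟩
    obtain ⟨Y, hY⟩ := exists_mX hφ hφt ((mX_SM (t := t) hφ hφt X).fg h.cube hts)
    rw [fX_apply, x1_conj h h1 (mX_SM (t := t) hφ hφt X), hY, ← fX_apply]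
    exact ⟨Y, rfl⟩
  · intro i
    apply norm_of_conj
    rintro _ ⟨X, rfl⟩
    obtain ⟨Y, hY⟩ := exists_mX hφ hφt ((mX_SM (t := t) hφ hφt X).aut h.cube h1 hts (c := ⟨g i, (h.mem i).1⟩)
      (h.mem i) (fun v => congrArg (fun m : V8 F ≃ₗ[F] V8 F => m v) (h.comm i i₀)))
    rw [fX_apply, h.x_eq, ← map_inv, ← map_mul, ← map_mul, hY, ← fX_apply]
    exact ⟨Y, rfl⟩
  · intro h3
    exact hy1 ((map_eq_one_iff _ hf).1 h3)

/-- **INV** -/
theorem dead_inv [Finite F] [Finite G] [Finite ι] [Nonempty Ω] (h : T3 hG N κ s Ω x₁ x r g)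
    (hIH : IH (Nat.card N)) (hN : NoN Ω N) (h2 : (2 : F) ≠ 0) (i₀ : ι) (hi : r i₀ = 2) : False := by
  have htt : g i₀ * g i₀ = 1 := by
    have := h.pow i₀
    rwa [hi, pow_two] at this
  obtain ⟨e, he0, hte, he⟩ := H510.Tri3.exists_idem h.cube h.ne h2 (h.mem i₀) htt
  obtain ⟨D, hD1, hD, hD2⟩ := H103.RC.InvD.exists_D hG h.cube h.ne he0 he
  obtain ⟨κ', g', h', hg'⟩ := H103.RC.InvT.transport h hD hD2
  refine dead_one h' hIH hN h2 i₀ hi ?_
  rw [← hD1, hg', hte]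

end env

end Cfsg.Agent.H188.RC.Inv
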