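import Cfsg.Agent.H188.RC.IDNormal
import Cfsg.Agent.UGT.U2.FOne.OrthJ

/-!
# S3510, type iii, box INV (C), part 1: the octonion automorphisms which are trivial on `H0` are an `SL₂(F)` (helper188)
-/

set_option autoImplicit false
open Cfsg

namespace Cfsg.Agent.H188.RC.Inv

open Module QuadraticMap Cfsg.Agent.LieClassical.OrthCore Cfsg.Agent.LieClassical.OrthTrans
  Cfsg.Agent.ClassicalGeometry.OrthSemi Cfsg.Agent.LieClassical.QuadForms
  Cfsg.Agent.ClassicalGeometry.TrialityOct Cfsg.Agent.ClassicalGeometry.Triality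
  Cfsg.Agent.H198.TriBase Cfsg.Agent.H752.SemiNormal Cfsg.Agent.H198.TriDia
open Cfsg.Agent.LieClassical.SLTwoUnipotent (u l eq_top_of_u_mem_of_l_mem)
open Matrix (SpecialLinearGroup)
open Cfsg.Agent.UGT.U2.FOne.Orth (Four)
open Cfsg.Agent.H188.RC.IDNormal

variable {F : Type} [Field F]

/-- the standard frame -/
theorem four (F : Type) [Field F] :
    Four (plusForm 4 F) (bs (.inl 2)) (bs (.inr 2)) (bs (.inl 3)) (bs (.inr 3)) := by
  refine ⟨⟨?_, ?_, ?_⟩, ⟨?_, ?_, ?_⟩, ?_, ?_, ?_, ?_⟩ <;> simp [norm8, polar8, bs]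

section coords

variable (X : SpecialLinearGroup (Fin 2) F) (v : V8 F)

theorem rho_l0 : (four F).rho X v (.inl 0) = v (.inl 0) := by
  rw [Four.rho_apply]; simp [Four.phi, polar8, bs]
theorem rho_l1 : (four F).rho X v (.inl 1) = v (.inl 1) := by
  rw [Four.rho_apply]; simp [Four.phi, polar8, bs]
theorem rho_r0 : (four F).rho X v (.inr 0) = v (.inr 0) := by
  rw [Four.rho_apply]; simp [Four.phi, polar8, bs]
theorem rho_r1 : (four F).rho X v (.inr 1) = v (.inr 1) := by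
  rw [Four.rho_apply]; simp [Four.phi, polar8, bs]
theorem rho_l2 : (four F).rho X v (.inl 2) = X.1 0 0 * v (.inl 2) + X.1 0 1 * v (.inl 3) := by
  rw [Four.rho_apply]; simp [Four.phi, polar8, bs]; ring
theorem rho_l3 : (four F).rho X v (.inl 3) = X.1 1 0 * v (.inl 2) + X.1 1 1 * v (.inl 3) := by
  rw [Four.rho_apply]; simp [Four.phi, polar8, bs]; ring
theorem rho_r2 : (four F).rho X v (.inr 2) = X.1 1 1 * v (.inr 2) - X.1 1 0 * v (.inr 3) := by
  rw [Four.rho_apply]; simp [Four.phi, polar8, bs]; ring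
theorem rho_r3 : (four F).rho X v (.inr 3) = -X.1 0 1 * v (.inr 2) + X.1 0 0 * v (.inr 3) := by
  rw [Four.rho_apply]; simp [Four.phi, polar8, bs]; ring

end coords

/-- trivial on `H0` -/
theorem rho_fix (X : SpecialLinearGroup (Fin 2) F) {v : V8 F} (hv : v ∈ H237.RC.ID.H0 F) : (four F).rho X v = v := by
  obtain ⟨h1, h2, h3, h4⟩ := hv
  apply ext8
  · exact rho_l0 X v
  · exact rho_l1 X v
  · rw [rho_l2, h1, h2]; ring
  · rw [rho_l3, h1, h2]; ring
  · exact rho_r0 X v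
  · exact rho_r1 X v
  · rw [rho_r2, h3, h4]; ring
  · rw [rho_r3, h3, h4]; ring

/-- automorphisms -/
theorem rho_omul (X : SpecialLinearGroup (Fin 2) F) (x y : V8 F) :
    (four F).rho X (omul x y) = omul ((four F).rho X x) ((four F).rho X y) := by
  have hd : X.1 0 0 * X.1 1 1 - X.1 0 1 * X.1 1 0 = 1 := by
    have := X.2
    rwa [Matrix.det_fin_two] at this
  apply ext8 <;>
    simp only [rho_l0, rho_l1, rho_l2, rho_l3, rho_r0, rho_r1, rho_r2, rho_r3,
      omul_l0, omul_l1, omul_l2, omul_l3, omul_r0, omul_r1, omul_r2, omul_r3]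
  · linear_combination (x (.inl 2) * y (.inr 2) + x (.inl 3) * y (.inr 3)) * hd
  · linear_combination (x (.inr 2) * y (.inr 3) - x (.inr 3) * y (.inr 2)) * hd
  · ring
  · ring
  · linear_combination (x (.inr 2) * y (.inl 2) + x (.inr 3) * y (.inl 3)) * hd
  · linear_combination (x (.inl 2) * y (.inl 3) - x (.inl 3) * y (.inl 2)) * hd
  · ring
  · ring

/-- the converse -/
theorem exists_rho {m : V8 F ≃ₗ[F] V8 F} (hm : ∀ v, plusForm 4 F (m v) = plusForm 4 F v)
    (hmul : ∀ x y, m (omul x y) = omul (m x) (m y)) (hfix : ∀ v ∈ H237.RC.ID.H0 F, m v = v) :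
    ∃ X : SpecialLinearGroup (Fin 2) F, m = (four F).rho X := by
  have hpol : ∀ v w, polar (plusForm 4 F) (m v) (m w) = polar (plusForm 4 F) v w := by
    intro v w
    simp only [polar, ← map_add, hm]
  have fl0 : m (bs (.inl 0)) = bs (.inl 0) := hfix _ ⟨rfl, rfl, rfl, rfl⟩
  have fl1 : m (bs (.inl 1)) = bs (.inl 1) := hfix _ ⟨rfl, rfl, rfl, rfl⟩
  have fr0 : m (bs (.inr 0)) = bs (.inr 0) := hfix _ ⟨rfl, rfl, rfl, rfl⟩
  have fr1 : m (bs (.inr 1)) = bs (.inr 1) := hfix _ ⟨rfl, rfl, rfl, rfl⟩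
  -- the image of `l₂`, `l₃`
  have key : ∀ k : Fin 4, k = 2 ∨ k = 3 → m (bs (.inl k)) (.inl 0) = 0 ∧ m (bs (.inl k)) (.inl 1) = 0 ∧
      m (bs (.inl k)) (.inr 0) = 0 ∧ m (bs (.inl k)) (.inr 1) = 0 ∧ m (bs (.inl k)) (.inr 2) = 0 ∧
      m (bs (.inl k)) (.inr 3) = 0 := by
    intro k hk
    have e1 : omul (bs (.inl 0)) (bs (.inl k)) = (bs (.inl k) : V8 F) := by
      rcases hk with rfl | rfl <;>
      · apply ext8 <;> simp [omul_l0, omul_l1, omul_l2, omul_l3, omul_r0, omul_r1, omul_r2, omul_r3, bs]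
    have e2 : omul (bs (.inl k)) (bs (.inl 0)) = (0 : V8 F) := by
      rcases hk with rfl | rfl <;>
      · apply ext8 <;> simp [omul_l0, omul_l1, omul_l2, omul_l3, omul_r0, omul_r1, omul_r2, omul_r3, bs]
    have e3 : polar (plusForm 4 F) (bs (.inl k)) (bs (.inr 1)) = 0 := by
      rcases hk with rfl | rfl <;> simp [polar8, bs]
    have g1 := hmul (bs (.inl 0)) (bs (.inl k))
    rw [e1, fl0] at g1
    have g2 := hmul (bs (.inl k)) (bs (.inl 0))
    rw [e2, fl0, map_zero] at g2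
    have g3 := hpol (bs (.inl k)) (bs (.inr 1))
    rw [e3, fr1] at g3
    refine ⟨?_, ?_, ?_, ?_, ?_, ?_⟩
    · have := congrFun g2 (.inl 0)
      simpa [omul_l0, bs] using this.symm
    · simpa [polar8, bs] using g3
    · have := congrFun g1 (.inr 0)
      simpa [omul_r0, bs] using this
    · have := congrFun g1 (.inr 1)
      simpa [omul_r1, bs] using this
    · have := congrFun g1 (.inr 2)
      simpa [omul_r2, bs] using this
    · have := congrFun g1 (.inr 3)
      simpa [omul_r3, bs] using this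
  obtain ⟨a1, a2, a3, a4, a5, a6⟩ := key 2 (Or.inl rfl)
  obtain ⟨b1, b2, b3, b4, b5, b6⟩ := key 3 (Or.inr rfl)
  -- determinant
  have hdet : m (bs (.inl 2)) (.inl 2) * m (bs (.inl 3)) (.inl 3) - m (bs (.inl 3)) (.inl 2) * m (bs (.inl 2)) (.inl 3) = 1 := by
    have e1 : omul (bs (.inl 2)) (bs (.inl 3)) = (-bs (.inr 1) : V8 F) := by
      apply ext8 <;> simp [omul_l0, omul_l1, omul_l2, omul_l3, omul_r0, omul_r1, omul_r2, omul_r3, bs]
    have g1 := hmul (bs (.inl 2)) (bs (.inl 3))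
    rw [e1, map_neg, fr1] at g1
    have g2 := congrFun g1 (.inr 1)
    rw [omul_r1, a4, b4] at g2
    simp [bs] at g2
    linear_combination g2
  let X : SpecialLinearGroup (Fin 2) F := ⟨!![m (bs (.inl 2)) (.inl 2), m (bs (.inl 3)) (.inl 2);
    m (bs (.inl 2)) (.inl 3), m (bs (.inl 3)) (.inl 3)], by rw [Matrix.det_fin_two_of]; exact hdet⟩
  have x00 : X.1 0 0 = m (bs (.inl 2)) (.inl 2) := rfl
  have x01 : X.1 0 1 = m (bs (.inl 3)) (.inl 2) := rfl
  have x10 : X.1 1 0 = m (bs (.inl 2)) (.inl 3) := rfl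
  have x11 : X.1 1 1 = m (bs (.inl 3)) (.inl 3) := rfl
  refine ⟨X, ?_⟩
  have hl2 : m (bs (.inl 2)) = (four F).rho X (bs (.inl 2)) := by
    apply ext8 <;> simp only [rho_l0, rho_l1, rho_l2, rho_l3, rho_r0, rho_r1, rho_r2, rho_r3, a1, a2, a3, a4, a5, a6,
      x00, x01, x10, x11] <;> simp [bs]
  have hl3 : m (bs (.inl 3)) = (four F).rho X (bs (.inl 3)) := by
    apply ext8 <;> simp only [rho_l0, rho_l1, rho_l2, rho_l3, rho_r0, rho_r1, rho_r2, rho_r3, b1, b2, b3, b4, b5, b6,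
      x00, x01, x10, x11] <;> simp [bs]
  have hl1 : m (bs (.inl 1)) = (four F).rho X (bs (.inl 1)) := by
    rw [fl1, rho_fix X ⟨rfl, rfl, rfl, rfl⟩]
  have hr3 : m (bs (.inr 3)) = (four F).rho X (bs (.inr 3)) := by
    have e1 : (bs (.inr 3) : V8 F) = -omul (bs (.inl 1)) (bs (.inl 2)) := by
      apply ext8 <;> simp [omul_l0, omul_l1, omul_l2, omul_l3, omul_r0, omul_r1, omul_r2, omul_r3, bs]
    have e2 : m (-omul (bs (.inl 1)) (bs (.inl 2))) = (four F).rho X (-omul (bs (.inl 1)) (bs (.inl 2))) := by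
      rw [map_neg, map_neg, hmul, rho_omul, hl1, hl2]
    exact (congrArg m e1).trans (e2.trans (congrArg ((four F).rho X) e1).symm)
  have hr2 : m (bs (.inr 2)) = (four F).rho X (bs (.inr 2)) := by
    have e1 : (bs (.inr 2) : V8 F) = omul (bs (.inl 1)) (bs (.inl 3)) := by
      apply ext8 <;> simp [omul_l0, omul_l1, omul_l2, omul_l3, omul_r0, omul_r1, omul_r2, omul_r3, bs]
    have e2 : m (omul (bs (.inl 1)) (bs (.inl 3))) = (four F).rho X (omul (bs (.inl 1)) (bs (.inl 3))) := by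
      rw [hmul, rho_omul, hl1, hl3]
    exact (congrArg m e1).trans (e2.trans (congrArg ((four F).rho X) e1).symm)
  have hl0 : m (bs (.inl 0)) = (four F).rho X (bs (.inl 0)) := by
    rw [fl0, rho_fix X ⟨rfl, rfl, rfl, rfl⟩]
  have hr0 : m (bs (.inr 0)) = (four F).rho X (bs (.inr 0)) := by
    rw [fr0, rho_fix X ⟨rfl, rfl, rfl, rfl⟩]
  have hr1 : m (bs (.inr 1)) = (four F).rho X (bs (.inr 1)) := by
    rw [fr1, rho_fix X ⟨rfl, rfl, rfl, rfl⟩]
  apply LinearEquiv.ext
  intro v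
  rw [decomp v]
  simp only [map_add, map_smul, hl0, hl1, hl2, hl3, hr0, hr1, hr2, hr3]

/-- `rho` is injective -/
theorem rho_inj {X : SpecialLinearGroup (Fin 2) F} (h : (four F).rho X = 1) : X = 1 := by
  have h2 : (four F).rho X (bs (.inl 2)) = bs (.inl 2) := by rw [h]; rfl
  have h3 : (four F).rho X (bs (.inl 3)) = bs (.inl 3) := by rw [h]; rfl
  apply Subtype.ext
  ext i j
  fin_cases i <;> fin_cases j
  · have := congrFun h2 (.inl 2)
    rw [rho_l2] at this
    simpa [bs] using this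
  · have := congrFun h3 (.inl 2)
    rw [rho_l2] at this
    simpa [bs] using this
  · have := congrFun h2 (.inl 3)
    rw [rho_l3] at this
    simpa [bs] using this
  · have := congrFun h3 (.inl 3)
    rw [rho_l3] at this
    simpa [bs] using this

end Cfsg.Agent.H188.RC.Inv
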