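import Cfsg.Agent.H183.RC.Sem
import Cfsg.Agent.H106.RC.MRule
import Cfsg.Agent.H106.RC.Descent
import Cfsg.Agent.TwoFusion.SLTwoFacts

/-!
# S3510, row C, box G `mcase` (helper188)

`mcase_of` : the statement `mcase`, with box C (`partI`, helper183) as the hypothesis `StPartI`.
-/

set_option autoImplicit false

open Cfsg Matrix Cfsg.Agent.H106.RC Cfsg.Agent.H183.RC MulAction

namespace Cfsg.Agent.H188.RC

/-! ### Standard form of a field automorphism -/

section chg

variable {G F : Type*} [Group G] [Field F] {N : Subgroup G}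

/-- iterated products -/
def itm (A : GL (Fin 2) F) (σ : F ≃+* F) : ℕ → GL (Fin 2) F
  | 0 => 1
  | n + 1 => A * gmap σ (itm A σ n)

theorem acts_itm (hN : N.Normal) {e : N ≃* PS F} {g : G} {A : GL (Fin 2) F} {σ : F ≃+* F}
    (h : Acts e g A σ) (n : ℕ) : Acts e (g ^ n) (itm A σ n) (σ ^ n) := by
  induction n with
  | zero => rw [pow_zero, pow_zero]; exact acts_one e
  | succ n ih => rw [pow_succ', pow_succ']; exact acts_mul hN h ih

/-- the semilinear map -/
def sl (A : GL (Fin 2) F) (σ : F ≃+* F) (v : Fin 2 → F) : Fin 2 → F :=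
  (A : Matrix (Fin 2) (Fin 2) F) *ᵥ (fun i => σ (v i))

theorem map_mulVec' (σ : F ≃+* F) (B : Matrix (Fin 2) (Fin 2) F) (v : Fin 2 → F) :
    (fun i => σ ((B *ᵥ v) i)) = B.map σ *ᵥ (fun i => σ (v i)) := by
  funext i
  exact RingHom.map_mulVec (σ : F →+* F) B v i

theorem sl_iter (A : GL (Fin 2) F) (σ : F ≃+* F) (n : ℕ) (v : Fin 2 → F) :
    (sl A σ)^[n] v = (itm A σ n : Matrix (Fin 2) (Fin 2) F) *ᵥ (fun i => (σ ^ n) (v i)) := by
  induction n with
  | zero => simp [itm]
  | succ n ih =>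
    rw [Function.iterate_succ_apply', ih, sl, map_mulVec', Matrix.mulVec_mulVec]
    rw [pow_succ']
    rfl

theorem sl_add (A : GL (Fin 2) F) (σ : F ≃+* F) (v w : Fin 2 → F) : sl A σ (v + w) = sl A σ v + sl A σ w := by
  rw [sl, sl, sl, ← Matrix.mulVec_add]
  congr 1
  funext i
  exact map_add σ _ _

theorem sl_smul (A : GL (Fin 2) F) (σ : F ≃+* F) (a : F) (v : Fin 2 → F) : sl A σ (a • v) = σ a • sl A σ v := by
  rw [sl, sl, ← Matrix.mulVec_smul]
  congr 1
  funext i
  exact map_mul σ _ _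

/-- as an additive equivalence -/
def slE (A : GL (Fin 2) F) (σ : F ≃+* F) : (Fin 2 → F) ≃+ (Fin 2 → F) where
  toFun := sl A σ
  invFun v := fun i => σ.symm ((((A⁻¹ : GL (Fin 2) F) : Matrix (Fin 2) (Fin 2) F) *ᵥ v) i)
  left_inv v := by
    funext i
    show σ.symm ((((A⁻¹ : GL (Fin 2) F) : Matrix (Fin 2) (Fin 2) F) *ᵥ
      ((A : Matrix (Fin 2) (Fin 2) F) *ᵥ fun i => σ (v i))) i) = v i
    rw [Matrix.mulVec_mulVec, ← Units.val_mul, inv_mul_cancel, Units.val_one, Matrix.one_mulVec,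
      RingEquiv.symm_apply_apply]
  right_inv v := by
    rw [sl]
    simp only [RingEquiv.apply_symm_apply]
    rw [Matrix.mulVec_mulVec, ← Units.val_mul, mul_inv_cancel, Units.val_one, Matrix.one_mulVec]
  map_add' := sl_add A σ

/-- change of basis to the standard field automorphism -/
theorem exists_std [Finite F] (hN : N.Normal) (e : N ≃* PS F) (h4 : 4 ≤ Nat.card F) {g : G}
    {A : GL (Fin 2) F} {σ : F ≃+* F} (h : Acts e g A σ) (hσ : σ ≠ 1) {r : ℕ} (hr : r.Prime) (hg : g ^ r = 1) :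
    σ ^ r = 1 ∧ ∃ (P : GL (Fin 2) F) (c : F), c ≠ 0 ∧
      ((P * A * (gmap σ P)⁻¹ : GL (Fin 2) F) : Matrix (Fin 2) (Fin 2) F) = c • (1 : Matrix (Fin 2) (Fin 2) F) := by
  have h1 := acts_itm hN h r
  rw [hg] at h1
  obtain ⟨h2, c, hc, h3⟩ := acts_uniq hN h4 (acts_one e) h1
  have hσr : σ ^ r = 1 := h2.symm
  refine ⟨hσr, ?_⟩
  have hord : orderOf σ = r := orderOf_eq_prime hσr hσ (hp := ⟨hr⟩)
  have hiter : ∀ v, (slE A σ : (Fin 2 → F) → (Fin 2 → F))^[r] v = c • v := by
    intro v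
    have h4 := sl_iter A σ r v
    rw [hσr, h3] at h4
    refine h4.trans ?_
    rw [Units.val_one, Matrix.smul_mulVec, Matrix.one_mulVec]
    rfl
  obtain ⟨a, ha, b, hb⟩ := descent σ r hr.pos hord (slE A σ) (sl_smul A σ) c hiter
  let b' : Module.Basis (Fin 2) F (Fin 2 → F) := b.reindex (finCongr (by simp))
  have hb' : ∀ i, a • sl A σ (b' i) = b' i := by
    intro i
    rw [Module.Basis.reindex_apply]
    exact hb _
  let B : GL (Fin 2) F := ⟨(Pi.basisFun F (Fin 2)).toMatrix b', b'.toMatrix (Pi.basisFun F (Fin 2)),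
    Module.Basis.toMatrix_mul_toMatrix_flip _ _, Module.Basis.toMatrix_mul_toMatrix_flip _ _⟩
  have hBcol : ∀ i j, (B : Matrix (Fin 2) (Fin 2) F) i j = b' j i := fun i j => rfl
  have key : (A : Matrix (Fin 2) (Fin 2) F) * (gmap σ B : Matrix (Fin 2) (Fin 2) F) =
      a⁻¹ • (B : Matrix (Fin 2) (Fin 2) F) := by
    ext i j
    have h5 : ((A : Matrix (Fin 2) (Fin 2) F) * (gmap σ B : Matrix (Fin 2) (Fin 2) F)) i j = sl A σ (b' j) i := by
      rw [Matrix.mul_apply]
      rfl
    rw [h5, Matrix.smul_apply, hBcol]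
    have h6 := congrFun (hb' j) i
    rw [← h6, Pi.smul_apply, smul_eq_mul, smul_eq_mul, ← mul_assoc, inv_mul_cancel₀ ha, one_mul]
  refine ⟨B⁻¹, a⁻¹, inv_ne_zero ha, ?_⟩
  have hinv : (gmap σ B⁻¹)⁻¹ = gmap σ B := by rw [← inv_inv (gmap σ B)]; rfl
  rw [hinv, Units.val_mul, Units.val_mul, mul_assoc, key, Matrix.mul_smul, ← Units.val_mul,
    inv_mul_cancel, Units.val_one]

end chg

/-! ### The subfield subgroup -/

section sub

variable {G F : Type*} [Group G] [Field F] {N : Subgroup G} {K : Subfield F}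

/-- extension of scalars -/
abbrev sm (K : Subfield F) : SL K →* SL F := Matrix.SpecialLinearGroup.map K.subtype

theorem sm_apply (s : SL K) (i j : Fin 2) : (sm K s : Matrix (Fin 2) (Fin 2) F) i j =
    ((s : Matrix (Fin 2) (Fin 2) K) i j : F) := rfl

theorem sm_injective : Function.Injective (sm K) := by
  intro s t h
  ext i j
  have h1 := congrArg (fun u : SL F => (u : Matrix (Fin 2) (Fin 2) F) i j) h
  exact h1

/-- the subfield subgroup as a homomorphism -/
def psi (e : N ≃* PS F) (K : Subfield F) : SL K →* G :=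
  N.subtype.comp (e.symm.toMonoidHom.comp ((QuotientGroup.mk' (Subgroup.center (SL F))).comp (sm K)))

theorem psi_mem (e : N ≃* PS F) (s : SL K) : psi e K s ∈ N := SetLike.coe_mem _

theorem e_psi (e : N ≃* PS F) (s : SL K) : e ⟨psi e K s, psi_mem e s⟩ = QuotientGroup.mk (sm K s) :=
  e.apply_symm_apply _

theorem psi_eq_iff (e : N ≃* PS F) {s : SL K} {n : N} (h : e n = QuotientGroup.mk (sm K s)) :
    psi e K s = n := by
  have h1 : (⟨psi e K s, psi_mem e s⟩ : N) = n := e.injective (by rw [e_psi, h])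
  exact congrArg Subtype.val h1

theorem sm_center {s : SL K} : sm K s ∈ Subgroup.center (SL F) ↔ s ∈ Subgroup.center (SL K) := by
  constructor
  · intro h
    rw [Subgroup.mem_center_iff] at h ⊢
    intro t
    apply sm_injective
    rw [map_mul, map_mul]
    exact h _
  · intro h
    rw [Matrix.SpecialLinearGroup.mem_center_iff] at h ⊢
    obtain ⟨r, hr, hs⟩ := h
    refine ⟨(r : F), ?_, ?_⟩
    · exact congrArg (Subtype.val) hr
    · ext i j
      rw [sm_apply, ← hs, Matrix.scalar_apply, Matrix.scalar_apply, Matrix.diagonal_apply, Matrix.diagonal_apply]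
      split_ifs <;> rfl

theorem psi_ker (e : N ≃* PS F) : (psi e K).ker = Subgroup.center (SL K) := by
  ext s
  rw [MonoidHom.mem_ker, ← sm_center]
  show ((e.symm (QuotientGroup.mk (sm K s)) : N) : G) = 1 ↔ _
  rw [OneMemClass.coe_eq_one, EmbeddingLike.map_eq_one_iff, QuotientGroup.eq_one_iff]

/-- the conjugate of `s` by a semilinear map -/
def cj (C : GL (Fin 2) K) (τ : K ≃+* K) (s : SL K) : SL K :=
  ⟨(C : Matrix (Fin 2) (Fin 2) K) * (s : Matrix (Fin 2) (Fin 2) K).map τ *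
    ((C⁻¹ : GL (Fin 2) K) : Matrix (Fin 2) (Fin 2) K), by
    have h1 : ((s : Matrix (Fin 2) (Fin 2) K).map τ).det = 1 := by
      have := Matrix.SpecialLinearGroup.det_coe (Matrix.SpecialLinearGroup.map (τ : K →+* K) s)
      exact this
    rw [Matrix.det_mul, Matrix.det_mul, h1, mul_one, ← Matrix.det_mul, ← Units.val_mul, mul_inv_cancel,
      Units.val_one, Matrix.det_one]⟩

theorem psi_conj (hN : N.Normal) {e : N ≃* PS F} {g : G} {A : GL (Fin 2) F} {σ : F ≃+* F} (h : Acts e g A σ)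
    (C : GL (Fin 2) K) (τ : K ≃+* K) (hC : ∀ i j, (A : Matrix (Fin 2) (Fin 2) F) i j = (C : Matrix (Fin 2) (Fin 2) K) i j)
    (hτ : ∀ a : K, σ (a : F) = (τ a : K)) (s : SL K) : g * psi e K s * g⁻¹ = psi e K (cj C τ s) := by
  symm
  refine psi_eq_iff (n := ⟨g * psi e K s * g⁻¹, hN.conj_mem _ (psi_mem e s) g⟩) e ?_
  refine h ⟨psi e K s, psi_mem e s⟩ _ (sm K s) _ rfl ?_ (e_psi e s)
  have hCm : (A : Matrix (Fin 2) (Fin 2) F) = (C : Matrix (Fin 2) (Fin 2) K).map K.subtype := by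
    ext i j; exact hC i j
  have hCi : ((A⁻¹ : GL (Fin 2) F) : Matrix (Fin 2) (Fin 2) F) =
      ((C⁻¹ : GL (Fin 2) K) : Matrix (Fin 2) (Fin 2) K).map K.subtype := by
    have h1 : A = Matrix.GeneralLinearGroup.map K.subtype C := Units.ext hCm
    rw [h1, ← map_inv]
    rfl
  have hs : (sm K s : Matrix (Fin 2) (Fin 2) F).map σ = ((s : Matrix (Fin 2) (Fin 2) K).map τ).map K.subtype := by
    ext i j
    exact hτ _
  rw [hCi, hs]
  conv_rhs => rw [hCm]
  rw [← RingHom.mapMatrix_apply, ← RingHom.mapMatrix_apply, ← RingHom.mapMatrix_apply, ← map_mul, ← map_mul]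
  rfl

end sub

/-! ### Galois theory -/

/-- a perfect nontrivial group is not commutative -/
theorem not_comm_of_perfect {X : Type*} [Group X] [Nontrivial X] (h : commutator X = ⊤) : ¬ IsMulCommutative X := by
  intro hc
  have h3 : commutator X = ⊥ := by
    rw [commutator_def, Subgroup.commutator_eq_bot_iff_le_centralizer]
    intro x _
    rw [Subgroup.mem_centralizer_iff]
    intro y _
    exact hc.is_comm.comm y x
  rw [h] at h3
  exact top_ne_bot h3

theorem not_comm_ps {K : Type*} [Field K] [Finite K] (h4 : 4 ≤ Nat.card K) : ¬ IsMulCommutative (PS K) := by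
  let _ : Fintype K := Fintype.ofFinite K
  have h3 : 3 < Fintype.card K := by rw [← Nat.card_eq_fintype_card]; omega
  have hs : IsSimpleGroup (PS K) := Cfsg.Agent.TwoFusion.SLTwoFacts.isSimpleGroup_psl h3
  have := hs.toNontrivial
  apply not_comm_of_perfect
  have h1 := Cfsg.Agent.TwoFusion.SLTwoFacts.commutator_eq_top h3
  have h2 : (commutator (SL K)).map (QuotientGroup.mk' (Subgroup.center (SL K))) = ⊤ := by
    rw [h1, ← MonoidHom.range_eq_map]
    exact MonoidHom.range_eq_top.mpr (QuotientGroup.mk'_surjective _)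
  rw [eq_top_iff]
  have h5 : (⊤ : Subgroup (PS K)) = (commutator (SL K)).map (QuotientGroup.mk' (Subgroup.center (SL K))) := h2.symm
  rw [h5, commutator_def, Subgroup.map_commutator]
  exact Subgroup.commutator_mono le_top le_top

/-- the scalar part over `K` -/
theorem uniq_sub {K : Type*} [Field K] [Finite K] (h4 : 4 ≤ Nat.card K) {C : GL (Fin 2) K} {τ : K ≃+* K}
    (h : ∀ s s' : SL K, (s' : Matrix (Fin 2) (Fin 2) K) = (C : Matrix (Fin 2) (Fin 2) K) *
      (s : Matrix (Fin 2) (Fin 2) K).map τ * ((C⁻¹ : GL (Fin 2) K) : Matrix (Fin 2) (Fin 2) K) →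
      s⁻¹ * s' ∈ Subgroup.center (SL K)) :
    τ = 1 ∧ ∃ c : K, c ≠ 0 ∧ (C : Matrix (Fin 2) (Fin 2) K) = c • (1 : Matrix (Fin 2) (Fin 2) K) := by
  have h1 : Acts (Subgroup.topEquiv : (⊤ : Subgroup (PS K)) ≃* PS K) (1 : PS K) C τ := by
    intro n n' s s' hn hs hns
    have h2 : n' = n := by
      apply Subtype.ext
      rw [hn, one_mul, inv_one, mul_one]
    rw [h2, hns]
    exact QuotientGroup.eq.mpr (h s s' hs)
  obtain ⟨h2, c, hc, h3⟩ := acts_uniq inferInstance h4 (acts_one (Subgroup.topEquiv : (⊤ : Subgroup (PS K)) ≃* PS K)) h1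
  exact ⟨h2.symm, c, hc, h3⟩

theorem mem_zpowers_of_fix {F : Type*} [Field F] [Finite F] {σ τ : F ≃+* F} (h : ∀ a, σ a = a → τ a = a) :
    τ ∈ Subgroup.zpowers σ := by
  classical
  have hfin : Finite (F ≃+* F) := Finite.of_injective (fun e : F ≃+* F => (e : F → F)) DFunLike.coe_injective
  let τ' : F →ₐ[FixedPoints.subfield (Subgroup.zpowers σ) F] F :=
    { (τ : F →+* F) with
      commutes' := fun a => by
        have ha : σ (a : F) = a := a.2 ⟨σ, Subgroup.mem_zpowers σ⟩
        exact h _ ha }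
  obtain ⟨g, hg⟩ := (FixedPoints.toAlgHom_bijective (Subgroup.zpowers σ) F).surjective τ'
  have h1 : (g : F ≃+* F) = τ := by
    ext a
    exact congrArg (fun f : F →ₐ[FixedPoints.subfield (Subgroup.zpowers σ) F] F => f a) hg
  rw [← h1]
  exact g.2

/-- restriction to the fixed field of a commuting automorphism -/
theorem exists_restrict {F : Type*} [Field F] {σ τ : F ≃+* F} (hc : σ * τ = τ * σ) {K : Subfield F}
    (hK : ∀ a : F, a ∈ K ↔ σ a = a) : ∃ τ' : K ≃+* K, ∀ a : K, τ (a : F) = (τ' a : K) := by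
  have h1 : ∀ a : F, σ (τ a) = τ (σ a) := fun a => congrArg (fun f : F ≃+* F => f a) hc
  have h2 : ∀ a : F, σ (τ.symm a) = τ.symm (σ a) := by
    intro a
    apply τ.injective
    rw [← h1, RingEquiv.apply_symm_apply, RingEquiv.apply_symm_apply]
  refine ⟨{ toFun := fun a => ⟨τ a, (hK _).mpr (by rw [h1, (hK _).mp a.2])⟩
            invFun := fun a => ⟨τ.symm a, (hK _).mpr (by rw [h2, (hK _).mp a.2])⟩
            left_inv := fun a => Subtype.ext (τ.symm_apply_apply _)
            right_inv := fun a => Subtype.ext (τ.apply_symm_apply _)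
            map_mul' := fun a b => Subtype.ext (map_mul τ _ _)
            map_add' := fun a b => Subtype.ext (map_add τ _ _) }, fun a => rfl⟩

/-- rational matrices -/
theorem exists_rational {F : Type*} [Field F] {σ : F ≃+* F} {K : Subfield F} (hK : ∀ a : F, a ∈ K ↔ σ a = a)
    {A : GL (Fin 2) F} {c : F} (hc : c ≠ 0)
    (h : (A : Matrix (Fin 2) (Fin 2) F) = c • (A : Matrix (Fin 2) (Fin 2) F).map σ) :
    ∃ (C : GL (Fin 2) K) (a : F), a ≠ 0 ∧
      ∀ i j, ((C : Matrix (Fin 2) (Fin 2) K) i j : F) = a * (A : Matrix (Fin 2) (Fin 2) F) i j := by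
  have hdet : (A : Matrix (Fin 2) (Fin 2) F).det ≠ 0 := by
    have h1 : IsUnit (A : Matrix (Fin 2) (Fin 2) F).det := (Matrix.isUnit_iff_isUnit_det _).mp A.isUnit
    exact h1.ne_zero
  obtain ⟨p, q, hpq⟩ : ∃ p q, (A : Matrix (Fin 2) (Fin 2) F) p q ≠ 0 := by
    by_contra hno
    push Not at hno
    apply hdet
    simp [Matrix.det_fin_two, hno]
  set a := (A : Matrix (Fin 2) (Fin 2) F) p q with ha
  have hent : ∀ i j, σ ((A : Matrix (Fin 2) (Fin 2) F) i j) = c⁻¹ * (A : Matrix (Fin 2) (Fin 2) F) i j := by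
    intro i j
    have h1 := congrFun (congrFun h i) j
    rw [Matrix.smul_apply, Matrix.map_apply, smul_eq_mul] at h1
    conv_rhs => rw [h1]
    rw [← mul_assoc, inv_mul_cancel₀ hc, one_mul]
  have hfix : ∀ i j, σ (a⁻¹ * (A : Matrix (Fin 2) (Fin 2) F) i j) = a⁻¹ * (A : Matrix (Fin 2) (Fin 2) F) i j := by
    intro i j
    rw [map_mul, map_inv₀, ha, hent, hent]
    field_simp
  let C : Matrix (Fin 2) (Fin 2) K := Matrix.of fun i j => ⟨a⁻¹ * (A : Matrix (Fin 2) (Fin 2) F) i j, (hK _).mpr (hfix i j)⟩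
  have hC : C.det ≠ 0 := by
    intro h0
    apply hdet
    have h1 := congrArg Subtype.val h0
    rw [Matrix.det_fin_two] at h1 ⊢
    have h2 : (a⁻¹ * (A : Matrix (Fin 2) (Fin 2) F) 0 0) * (a⁻¹ * (A : Matrix (Fin 2) (Fin 2) F) 1 1) -
        (a⁻¹ * (A : Matrix (Fin 2) (Fin 2) F) 0 1) * (a⁻¹ * (A : Matrix (Fin 2) (Fin 2) F) 1 0) = 0 := h1
    have h3 : a⁻¹ * a⁻¹ * ((A : Matrix (Fin 2) (Fin 2) F) 0 0 * (A : Matrix (Fin 2) (Fin 2) F) 1 1 -
        (A : Matrix (Fin 2) (Fin 2) F) 0 1 * (A : Matrix (Fin 2) (Fin 2) F) 1 0) = 0 := by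
      rw [← h2]; ring
    rcases mul_eq_zero.mp h3 with h4 | h4
    · exfalso
      exact mul_ne_zero (inv_ne_zero hpq) (inv_ne_zero hpq) h4
    · exact h4
  exact ⟨Matrix.GeneralLinearGroup.mkOfDetNeZero C hC, a⁻¹, inv_ne_zero hpq, fun i j => rfl⟩

/-! ### An element of `M` fixing a line -/

/-- diagonal matrices -/
def dg {K : Type*} [Field K] (u : Kˣ) : SL K :=
  ⟨!![(u : K), 0; 0, ((u⁻¹ : Kˣ) : K)], by rw [Matrix.det_fin_two_of]; simp⟩

theorem dg_mul {K : Type*} [Field K] (u v : Kˣ) : dg (u * v) = dg u * dg v := by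
  ext i j
  rw [Matrix.SpecialLinearGroup.coe_mul, Matrix.mul_apply, Fin.sum_univ_two]
  fin_cases i <;> fin_cases j <;> simp [dg, mul_comm]

/-- as a homomorphism -/
def dgHom (K : Type*) [Field K] : Kˣ →* SL K where
  toFun := dg
  map_one' := by
    ext i j
    fin_cases i <;> fin_cases j <;> simp [dg]
  map_mul' := dg_mul

theorem dg_center {K : Type*} [Field K] {u : Kˣ} (h : dg u ∈ Subgroup.center (SL K)) : u ^ 2 = 1 := by
  rw [Matrix.SpecialLinearGroup.mem_center_iff] at h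
  obtain ⟨r, hr, h⟩ := h
  have h1 : r = u := by
    have := congrFun (congrFun h 0) 0
    simpa [dg] using this
  rw [Fintype.card_fin] at hr
  apply Units.ext
  rw [Units.val_pow_eq_pow_val, ← h1, hr]
  rfl

/-- transvections -/
def tv {K : Type*} [Field K] (c : K) : SL K := ⟨!![1, c; 0, 1], by rw [Matrix.det_fin_two_of]; ring⟩

theorem tv_mul {K : Type*} [Field K] (c d : K) : tv c * tv d = tv (c + d) := by
  ext i j
  rw [Matrix.SpecialLinearGroup.coe_mul, Matrix.mul_apply, Fin.sum_univ_two]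
  fin_cases i <;> fin_cases j <;> simp [tv, add_comm]

theorem tv_zero {K : Type*} [Field K] : tv (0 : K) = 1 := by
  ext i j
  fin_cases i <;> fin_cases j <;> simp [tv]

theorem tv_pow {K : Type*} [Field K] (c : K) (n : ℕ) : tv c ^ n = tv (n * c) := by
  induction n with
  | zero => rw [pow_zero, Nat.cast_zero, zero_mul, tv_zero]
  | succ n ih =>
    rw [pow_succ, ih, tv_mul]
    congr 1
    push_cast
    ring

theorem mulVec_e {F : Type*} [Field F] {K : Subfield F} {t : SL K} (h : (t : Matrix (Fin 2) (Fin 2) K) 1 0 = 0) :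
    (sm K t : Matrix (Fin 2) (Fin 2) F) *ᵥ ![1, 0] = (((t : Matrix (Fin 2) (Fin 2) K) 0 0 : K) : F) • ![1, 0] := by
  have h' : (sm K t : Matrix (Fin 2) (Fin 2) F) 1 0 = 0 := by rw [sm_apply, h]; rfl
  have h0 : (sm K t : Matrix (Fin 2) (Fin 2) F) 0 0 = (((t : Matrix (Fin 2) (Fin 2) K) 0 0 : K) : F) := rfl
  rw [← h0]
  funext i
  fin_cases i
  · simp [Matrix.mulVec, dotProduct, Fin.sum_univ_two]
  · simp only [Matrix.mulVec, dotProduct, Fin.sum_univ_two, Fin.mk_one, Pi.smul_apply]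
    rw [h']
    simp

theorem exists_y {G F : Type*} [Group G] [Field F] [Finite F] {N : Subgroup G} (e : N ≃* PS F) {K : Subfield F}
    (h4 : 4 ≤ Nat.card K) (r : ℕ) :
    ∃ (s : ℕ) (t : SL K), s.Prime ∧ s ≠ r ∧ psi e K t ^ s = 1 ∧ psi e K t ≠ 1 ∧
      ∃ c : F, (sm K t : Matrix (Fin 2) (Fin 2) F) *ᵥ ![1, 0] = c • ![1, 0] := by
  classical
  let _ : Fintype K := Fintype.ofFinite K
  have hker : ∀ t : SL K, psi e K t = 1 ↔ t ∈ Subgroup.center (SL K) := fun t => by
    rw [← psi_ker e, MonoidHom.mem_ker]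
  obtain ⟨p, hp⟩ := CharP.exists K
  have hpp : p.Prime := (CharP.char_is_prime_or_zero K p).resolve_right (CharP.char_ne_zero_of_finite K p)
  by_cases hr : r = p
  · -- diagonal element
    have hcard : 4 ≤ Fintype.card K := by rwa [← Nat.card_eq_fintype_card]
    obtain ⟨u, hu⟩ : ∃ u : Kˣ, u ^ 2 ≠ 1 := by
      have h1 : ({0, 1, -1} : Finset K).card < (Finset.univ : Finset K).card := by
        refine lt_of_le_of_lt Finset.card_le_three ?_
        rw [Finset.card_univ]; omega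
      obtain ⟨a, -, ha⟩ := Finset.exists_mem_notMem_of_card_lt_card h1
      simp only [Finset.mem_insert, Finset.mem_singleton, not_or] at ha
      refine ⟨Units.mk0 a ha.1, fun h2 => ?_⟩
      have h3 : a ^ 2 = 1 := congrArg Units.val h2
      rcases (mul_self_eq_one_iff.mp (by rw [← sq]; exact h3) : a = 1 ∨ a = -1) with h | h
      · exact ha.2.1 h
      · exact ha.2.2 h
    let δ : Kˣ →* G := (psi e K).comp (dgHom K)
    have hδ1 : δ u ≠ 1 := fun h => hu (dg_center ((hker _).mp h))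
    have hord1 : orderOf (δ u) ≠ 1 := fun h => hδ1 (orderOf_eq_one_iff.mp h)
    obtain ⟨s, hs, m, hm⟩ := Nat.exists_prime_and_dvd hord1
    have hfin : 0 < orderOf (δ u) :=
      Nat.pos_of_dvd_of_pos ((orderOf_map_dvd δ u)) (orderOf_pos u)
    have hm0 : 0 < m := by
      rcases Nat.eq_zero_or_pos m with h | h
      · rw [h, mul_zero] at hm; omega
      · exact h
    refine ⟨s, dg (u ^ m), hs, ?_, ?_, ?_, _, mulVec_e rfl⟩
    · rintro rfl
      -- `s` divides `|K| - 1`
      have h1 : s ∣ Fintype.card K - 1 := by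
        have h2 : orderOf (δ u) ∣ Fintype.card Kˣ := (orderOf_map_dvd δ u).trans (orderOf_dvd_card)
        rw [Fintype.card_units] at h2
        exact (Dvd.intro _ hm.symm).trans h2
      have h2 : s ∣ Fintype.card K := by
        obtain ⟨n, -, hn⟩ := FiniteField.card K p
        rw [hn, hr]
        exact dvd_pow_self p n.ne_zero
      have h3 : s ∣ 1 := by
        have h5 := Nat.dvd_sub h2 h1
        rwa [Nat.sub_sub_self (by omega)] at h5
      exact hs.one_lt.ne' (Nat.dvd_one.mp h3)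
    · show δ (u ^ m) ^ s = 1
      rw [map_pow, ← pow_mul, mul_comm m s, ← hm, pow_orderOf_eq_one]
    · show δ (u ^ m) ≠ 1
      rw [map_pow]
      intro h
      have h1 := orderOf_dvd_of_pow_eq_one h
      rw [hm] at h1
      have h2 := Nat.le_of_dvd hm0 h1
      have h3 := hs.two_le
      nlinarith
  · -- transvection
    refine ⟨p, tv 1, hpp, fun h => hr h.symm, ?_, ?_, _, mulVec_e rfl⟩
    · rw [← map_pow, tv_pow, CharP.cast_eq_zero K p, zero_mul, tv_zero, map_one]
    · intro h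
      have h1 := (hker _).mp h
      rw [Matrix.SpecialLinearGroup.mem_center_iff] at h1
      obtain ⟨a, -, h1⟩ := h1
      have h2 := congrFun (congrFun h1 0) 1
      simp [tv] at h2

/-! ### The result -/

/-- the statement of box C (`partI`), for types in `Type` -/
def StPartI : Prop :=
  ∀ {G Ω F ι : Type} [Group G] [Finite G] [MulAction G Ω] [Nonempty Ω] [Field F] [Finite F]
    {N : Subgroup G} (_ : Env G Ω N) (e : N ≃* PS F) (_ : 7 ≤ Nat.card F) (_ : Nat.card F ≠ 9)
    [Finite ι] (x : ι → G) (r : ι → ℕ) (A : ι → GL (Fin 2) F) (σ : ι → F ≃+* F)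
    (_ : ∀ i, Acts e (x i) (A i) (σ i)) (_ : ∀ i, (r i).Prime) (_ : ∀ i, x i ^ r i = 1)
    (_ : ∀ i, x i ≠ 1) (_ : ∀ i j, x i * x j = x j * x i)
    (_ : ∀ i j, r i = ringChar F → r j = ringChar F → i = j)
    (_ : ∀ i j, σ i ≠ 1 → σ j ≠ 1 → r i = r j → i = j)
    (v : Fin 2 → F) (_ : v ≠ 0) (_ : ∀ i, FixL (A i) (σ i) v), ∃ ω : Ω, ∀ i, x i • ω ≠ ω

/-- **BOX G** from box C. -/
theorem mcase_of (partI : StPartI) {G Ω F ι : Type} [Group G] [Finite G] [MulAction G Ω] [Finite Ω] [Nonempty Ω] [Field F] [Finite F]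
    {N : Subgroup G} (hE : Env G Ω N) (e : N ≃* PS F) (h7 : 7 ≤ Nat.card F) (h9 : Nat.card F ≠ 9)
    [Finite ι] (x : ι → G) (r : ι → ℕ) (h : PF x r) (A : ι → GL (Fin 2) F) (σ : ι → F ≃+* F)
    (hA : ∀ i, Acts e (x i) (A i) (σ i)) (k : ι) (hk : σ k ≠ 1)
    (K : Subfield F) (hK : ∀ a : F, a ∈ K ↔ σ k a = a) (h4 : 4 ≤ Nat.card K)
    (hRC : RC (PS K)) : ¬ Cov Ω x := by
  classical
  intro hcov
  have hN := hE.norm
  have h4F : 4 ≤ Nat.card F := by omega
  obtain ⟨hσr, P, c, hc, hP⟩ := exists_std hN e h4F (hA k) hk (h.prime k) (h.pow k)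
  obtain ⟨e', -, he'⟩ := exists_chg (G := G) e P
  have hk' : Acts e' (x k) 1 (σ k) := acts_smul (he' _ _ _ (hA k)) c⁻¹ (by
    rw [hP, smul_smul, inv_mul_cancel₀ hc, one_smul]; rfl)
  -- rational lifts
  have hrat : ∀ j, ∃ (B : GL (Fin 2) F) (C : GL (Fin 2) K) (τ : K ≃+* K), Acts e' (x j) B (σ j) ∧
      (∀ i i', (B : Matrix (Fin 2) (Fin 2) F) i i' = (C : Matrix (Fin 2) (Fin 2) K) i i') ∧
      (∀ a : K, σ j (a : F) = (τ a : K)) := by
    intro j
    have hj := he' _ _ _ (hA j)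
    obtain ⟨hcσ, c', hc', hcm⟩ := acts_comm hN h4F hk' hj (h.comm k j)
    obtain ⟨C, a, ha, hC⟩ := exists_rational hK hc' (by
      have h1 : gmap (σ j) (1 : GL (Fin 2) F) = 1 := map_one _
      rw [h1, mul_one, one_mul] at hcm
      exact hcm)
    obtain ⟨τ, hτ⟩ := exists_restrict hcσ hK
    refine ⟨Matrix.GeneralLinearGroup.map K.subtype C, C, τ, acts_smul hj a ?_, fun i i' => rfl, hτ⟩
    ext i i'
    exact hC i i'
  choose B C τ hB hBC hτ using hrat
  have hconj : ∀ j s, x j * psi e' K s * (x j)⁻¹ = psi e' K (cj (C j) (τ j) s) := fun j s =>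
    psi_conj hN (hB j) (C j) (τ j) (hBC j) (hτ j) s
  have hkcomm : ∀ s : SL K, x k * psi e' K s = psi e' K s * x k := by
    intro s
    have h1 := psi_conj (K := K) hN hk' 1 1 (fun i j => by
      rw [Units.val_one, Units.val_one, Matrix.one_apply, Matrix.one_apply]
      split_ifs <;> rfl) (fun a => (hK a).mp a.2) s
    have h2 : cj (1 : GL (Fin 2) K) 1 s = s := by
      apply Subtype.ext
      show ((1 : GL (Fin 2) K) : Matrix (Fin 2) (Fin 2) K) * (s : Matrix (Fin 2) (Fin 2) K).map (1 : K ≃+* K) *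
        (((1 : GL (Fin 2) K)⁻¹ : GL (Fin 2) K) : Matrix (Fin 2) (Fin 2) K) = s
      rw [inv_one, Units.val_one, one_mul, mul_one]
      rfl
    rw [h2, mul_inv_eq_iff_eq_mul] at h1
    exact h1
  set ψ := psi e' K with hψ
  -- group facts
  let _ : Fintype K := Fintype.ofFinite K
  have h3K : 3 < Fintype.card K := by rw [← Nat.card_eq_fintype_card]; omega
  have hsimple : IsSimpleGroup (PS K) := Cfsg.Agent.TwoFusion.SLTwoFacts.isSimpleGroup_psl h3K
  have hperf : ⁅ψ.range, ψ.range⁆ = ψ.range := by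
    have h1 := Cfsg.Agent.TwoFusion.SLTwoFacts.commutator_eq_top (F := K) h3K
    rw [commutator_def] at h1
    rw [MonoidHom.range_eq_map ψ, ← Subgroup.map_commutator, h1]
  let εM := (QuotientGroup.quotientKerEquivRange ψ).symm.trans (QuotientGroup.quotientMulEquivOfEq (psi_ker e'))
  let π : ψ.range →* PS K := εM.toMonoidHom
  have hπi : Function.Injective π := εM.injective
  have hπ : Function.Surjective π := εM.surjective
  have hker : π.ker ≤ Subgroup.center ψ.range := by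
    rw [(MonoidHom.ker_eq_bot_iff π).mpr hπi]; exact bot_le
  have hnorm : ∀ i, x i ∈ Subgroup.normalizer ((ψ.range : Subgroup G) : Set G) := fun i =>
    Subgroup.mem_normalizer_fintype (by
      rintro _ ⟨s, rfl⟩
      exact ⟨_, (hconj i s).symm⟩)
  -- only `x k` centralises `M`
  have hcent : ∀ j, (∀ m ∈ ψ.range, x j * m = m * x j) → j = k := by
    intro j hj
    by_contra hjk
    obtain ⟨hτ1, a, ha, hCa⟩ := uniq_sub h4 (C := C j) (τ := τ j) (by
      intro s s' hs'
      have h1 : s' = cj (C j) (τ j) s := Subtype.ext hs'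
      rw [← psi_ker e', MonoidHom.mem_ker, map_mul, map_inv, h1, ← hψ, ← hconj, hj _ ⟨s, rfl⟩,
        mul_inv_cancel_right, inv_mul_cancel])
    have hσj : σ j ∈ Subgroup.zpowers (σ k) := mem_zpowers_of_fix (fun a ha => by
      have h1 := hτ j ⟨a, (hK a).mpr ha⟩
      rw [hτ1] at h1
      exact h1)
    have h1 : σ j ^ r k = 1 := by
      obtain ⟨m, hm⟩ := Subgroup.mem_zpowers_iff.mp hσj
      rw [← hm, ← zpow_natCast, ← _root_.zpow_mul, mul_comm, _root_.zpow_mul, zpow_natCast, hσr, _root_.one_zpow]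
    have h2 : σ j ^ r j = 1 := by
      have h3 := acts_itm hN (hB j) (r j)
      rw [h.pow j] at h3
      exact ((acts_uniq hN h4F (acts_one e') h3).1).symm
    have h3 : σ j = 1 := by
      have hcop : Nat.Coprime (r k) (r j) :=
        (Nat.coprime_primes (h.prime k) (h.prime j)).mpr (fun hh => hjk (h.inj hh.symm))
      have h5 : orderOf (σ j) ∣ Nat.gcd (r k) (r j) :=
        Nat.dvd_gcd (orderOf_dvd_of_pow_eq_one h1) (orderOf_dvd_of_pow_eq_one h2)
      rw [hcop] at h5
      exact orderOf_eq_one_iff.mp (Nat.dvd_one.mp h5)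
    apply h.ne j
    have h5 := hB j
    rw [h3] at h5
    refine acts_triv hN hE.cent h5 (a : F) ?_
    ext i i'
    rw [hBC, hCa, Matrix.smul_apply, Matrix.smul_apply, Matrix.one_apply, Matrix.one_apply]
    split_ifs
    · rfl
    · rfl
  have hrule : ∀ ω : Ω, ψ.range ≤ stabilizer G ω ∨ x k • ω = ω := by
    intro ω
    rcases mrule_RC hsimple (not_comm_ps h4) x r h.prime h.inj h.pow h.comm ψ.range hperf π hπ hker hnorm hRC ω
      (fun m _ => hcov (m • ω)) with h1 | ⟨j, hj, hjω⟩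
    · exact Or.inl h1
    · right
      rw [← hcent j hj]
      exact hjω
  obtain ⟨s, t, hs, hsr, hts, ht1, c1, ht⟩ := exists_y e' h4 (r k)
  obtain ⟨ω, hω⟩ := partI (ι := Bool) hE e' h7 h9 (fun b => cond b (x k) (ψ t)) (fun b => cond b (r k) s)
    (fun b => cond b 1 (Matrix.SpecialLinearGroup.toGL (sm K t))) (fun b => cond b (σ k) 1)
    (by
      rintro (_ | _)
      · exact acts_mem ⟨psi e' K t, psi_mem e' t⟩ (sm K t) (e_psi e' t)
      · exact hk')
    (by
      rintro (_ | _)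
      · exact hs
      · exact h.prime k)
    (by
      rintro (_ | _)
      · exact hts
      · exact h.pow k)
    (by
      rintro (_ | _)
      · exact ht1
      · exact h.ne k)
    (by
      rintro (_ | _) (_ | _)
      · rfl
      · exact (hkcomm t).symm
      · exact hkcomm t
      · rfl)
    (by
      rintro (_ | _) (_ | _) h1 h2
      · rfl
      · exact (hsr (h1.trans h2.symm)).elim
      · exact (hsr (h2.trans h1.symm)).elim
      · rfl)
    (by
      rintro (_ | _) (_ | _) h1 h2 h3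
      · rfl
      · exact (h1 rfl).elim
      · exact (h2 rfl).elim
      · rfl)
    ![1, 0] (by
      intro h0
      have := congrFun h0 0
      simp at this)
    (by
      rintro (_ | _)
      · exact ⟨c1, ht⟩
      · refine ⟨1, ?_⟩
        show ((1 : GL (Fin 2) F) : Matrix (Fin 2) (Fin 2) F) *ᵥ (fun i => σ k ((![1, 0] : Fin 2 → F) i)) =
          (1 : F) • ![1, 0]
        rw [Units.val_one, Matrix.one_mulVec, one_smul]
        funext i
        fin_cases i <;> simp)
  rcases hrule ω with h1 | h1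
  · exact hω false (h1 ⟨t, rfl⟩)
  · exact hω true h1

end Cfsg.Agent.H188.RC
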