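import Cfsg.Agent.H442.RC.ExDef
import Cfsg.Agent.H746.BRigid
import Cfsg.Agent.H950.Quad
import Cfsg.Agent.H237.RC.SN

/-!
# S3510, triality of type (ii), box SS: semisimple exact automorphisms of the Okubo product (helper188)

`g = conj P` on the matrices `Phi z`; `P` is diagonalisable.  Either the eigenvalues are pairwise different
(`D1`), or `g` fixes a hyperbolic pair of vectors of `Δ = {v | v ⋄ v = 0}` (`D2`).
-/

set_option autoImplicit false

namespace Cfsg.Agent.H188.RC.OkSS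

open Module QuadraticMap Cfsg.Agent.LieClassical.OrthCore Cfsg.Agent.LieClassical.OrthTrans
  Cfsg.Agent.LieClassical.OrthSimple Cfsg.Agent.ClassicalGeometry.OrthAut1
  Cfsg.Agent.ClassicalGeometry.OrthSemi Cfsg.Agent.H198.Classes
  Cfsg.Agent.LieClassical.QuadForms Cfsg.Agent.H198.ClassesPlus
  Cfsg.Agent.ClassicalGeometry.TrialityOct Cfsg.Agent.ClassicalGeometry.Triality
  Cfsg.Agent.ClassicalGeometry.TrialitySpaces Cfsg.Agent.H198.TriBase Cfsg.Agent.H198.TriAut
  Cfsg.Agent.H206.Balance Cfsg.Agent.H198.BalVar Cfsg.Agent.H198.TriDia Cfsg.Agent.H198.TriSpec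
  Cfsg.Agent.H198.TriPhi Cfsg.Agent.H442.RC.TriB Matrix

universe u v

/-! ### Diagonalisation -/

/-- a matrix with scalar `m`-th power is diagonalisable -/
theorem exists_diag {E : Type v} [Field E] [IsAlgClosed E] {P : Matrix (Fin 3) (Fin 3) E} {m : ℕ}
    (hm : (m : E) ≠ 0) {c : E} (hc : c ≠ 0) (h : P ^ m = c • (1 : Matrix (Fin 3) (Fin 3) E)) :
    ∃ (T T' : Matrix (Fin 3) (Fin 3) E) (α : Fin 3 → E), T * T' = 1 ∧ T' * T = 1 ∧ P * T = T * diagonal α := by
  classical
  let f : Module.End E (Fin 3 → E) := Matrix.toLin' P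
  have hpow : ∀ k : ℕ, f ^ k = Matrix.toLin' (P ^ k) := by
    intro k
    exact (Matrix.toLin'_pow P k).symm
  have hss : f.IsSemisimple := by
    have hsep : (Polynomial.X ^ m - Polynomial.C c : Polynomial E).Separable :=
      Polynomial.separable_X_pow_sub_C c hm hc
    refine Module.End.isSemisimple_of_squarefree_aeval_eq_zero hsep.squarefree ?_
    rw [map_sub, map_pow, Polynomial.aeval_X, Polynomial.aeval_C, hpow, h, map_smul, Matrix.toLin'_one, sub_eq_zero]
    rfl
  have htop := Module.End.iSup_maxGenEigenspace_eq_top f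
  let S : Set (Fin 3 → E) := {v | ∃ c : E, P *ᵥ v = c • v}
  have hspan : ⊤ ≤ Submodule.span E S := by
    rw [← htop]
    refine iSup_le fun χ => ?_
    intro v hv
    refine Submodule.subset_span ⟨χ, ?_⟩
    rw [hss.isFinitelySemisimple.maxGenEigenspace_eq_eigenspace] at hv
    exact Module.End.mem_eigenspace_iff.1 hv
  obtain ⟨ι, b0, hb0⟩ : ∃ (ι : Type _) (b : Basis ι E (Fin 3 → E)), ∀ i, b i ∈ S :=
    ⟨_, Basis.ofSpan hspan, fun i => Basis.ofSpan_subset hspan ⟨i, rfl⟩⟩
  have hcard : Nat.card ι = 3 := by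
    rw [← Module.finrank_eq_nat_card_basis b0]
    simp
  have : Finite ι := Nat.finite_of_card_ne_zero (by rw [hcard]; norm_num)
  have eqv := (Finite.equivFinOfCardEq hcard)
  have hb : ∀ i, (b0.reindex eqv) i ∈ S := by
    intro i
    rw [Basis.reindex_apply]
    exact hb0 _
  choose α hα using hb
  let b := b0.reindex eqv
  refine ⟨(Pi.basisFun E (Fin 3)).toMatrix b, b.toMatrix (Pi.basisFun E (Fin 3)), α,
    Basis.toMatrix_mul_toMatrix_flip _ _, Basis.toMatrix_mul_toMatrix_flip _ _, ?_⟩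
  ext x y
  rw [Matrix.mul_diagonal, Matrix.mul_apply]
  have h1 := congrFun (hα y) x
  rw [Matrix.mulVec, dotProduct] at h1
  simp only [Basis.toMatrix_apply, Pi.basisFun_repr]
  rw [h1, Pi.smul_apply, smul_eq_mul, mul_comm]

variable {F : Type u} [Field F] {E : Type v} [Field E]

/-! ### Conjugated matrices -/

/-- the matrices in another basis -/
def Psi (i : F →+* E) (w : E) (T T' : Matrix (Fin 3) (Fin 3) E) (z : V8 F) : Matrix (Fin 3) (Fin 3) E :=
  T' * Phi i w z * T

section conj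

variable {i : F →+* E} {w : E} {T T' : Matrix (Fin 3) (Fin 3) E}

theorem Psi_add (x y : V8 F) : Psi i w T T' (x + y) = Psi i w T T' x + Psi i w T T' y := by
  rw [Psi, Phi_add, mul_add, add_mul]; rfl

theorem Psi_sub (x y : V8 F) : Psi i w T T' (x - y) = Psi i w T T' x - Psi i w T T' y := by
  rw [Psi, Phi_sub, mul_sub, sub_mul]; rfl

theorem Psi_smul (c : F) (x : V8 F) : Psi i w T T' (c • x) = i c • Psi i w T T' x := by
  rw [Psi, Phi_smul, mul_smul_comm, smul_mul_assoc]; rfl

theorem Psi_zero : Psi i w T T' (0 : V8 F) = 0 := by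
  rw [Psi, Phi_zero, mul_zero, zero_mul]

theorem Psi_mul (hT : T * T' = 1) (x y : V8 F) : Psi i w T T' x * Psi i w T T' y = T' * (Phi i w x * Phi i w y) * T := by
  rw [Psi, Psi]
  calc T' * Phi i w x * T * (T' * Phi i w y * T) = T' * Phi i w x * (T * T') * Phi i w y * T := by noncomm_ring
    _ = _ := by rw [hT]; noncomm_ring

theorem trace_conj (hT : T * T' = 1) (X : Matrix (Fin 3) (Fin 3) E) : trace (T' * X * T) = trace X := by
  rw [trace_mul_comm, ← mul_assoc, hT, one_mul]

theorem trace_Psi (hw : w ^ 2 + w + 1 = 0) (hT : T * T' = 1) (x : V8 F) : trace (Psi i w T T' x) = 0 := by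
  rw [Psi, trace_conj hT, trace_Phi i hw]

theorem trace_Psi_mul (hw : w ^ 2 + w + 1 = 0) (h3 : (3 : E) ≠ 0) (hT : T * T' = 1) (x y : V8 F) :
    trace (Psi i w T T' x * Psi i w T T' y) = -i (polar (plusForm 4 F) x y) := by
  rw [Psi_mul hT, trace_conj hT, trace_Phi_mul i hw h3]

theorem Psi_eq_zero (hw : w ^ 2 + w + 1 = 0) (h3 : (3 : E) ≠ 0) (hT : T * T' = 1) {x : V8 F}
    (h : Psi i w T T' x = 0) : x = 0 := by
  apply Phi_injective i hw h3
  rw [Phi_zero]
  have h1 : T * Psi i w T T' x * T' = Phi i w x := by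
    rw [Psi]
    calc T * (T' * Phi i w x * T) * T' = (T * T') * Phi i w x * (T * T') := by noncomm_ring
      _ = _ := by rw [hT, one_mul, mul_one]
  rw [← h1, h, mul_zero, zero_mul]

/-- the bracket -/
theorem Psi_comm (hw : w ^ 2 + w + 1 = 0) (h3 : (3 : E) ≠ 0) (hT : T * T' = 1) (x y : V8 F) :
    Psi i w T T' (dia (tauB F) x y - dia (tauB F) y x) =
      -(Psi i w T T' x * Psi i w T T' y - Psi i w T T' y * Psi i w T T' x) := by
  have e : Phi i w (dia (tauB F) x y - dia (tauB F) y x) = -(Phi i w x * Phi i w y - Phi i w y * Phi i w x) := by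
    rw [Phi_sub, Phi_dia i hw h3, Phi_dia i hw h3, trace_mul_comm (Phi i w y)]
    have e6 : w + w ^ 2 = -1 := by linear_combination hw
    have e1 : w • (Phi i w x * Phi i w y) - w ^ 2 • (Phi i w y * Phi i w x) -
        ((w - w ^ 2) / 3 * trace (Phi i w x * Phi i w y)) • (1 : Matrix (Fin 3) (Fin 3) E) -
        (w • (Phi i w y * Phi i w x) - w ^ 2 • (Phi i w x * Phi i w y) -
        ((w - w ^ 2) / 3 * trace (Phi i w x * Phi i w y)) • (1 : Matrix (Fin 3) (Fin 3) E)) =
        (w + w ^ 2) • (Phi i w x * Phi i w y - Phi i w y * Phi i w x) := by module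
    rw [e1, e6, neg_one_smul]
  rw [Psi_mul hT, Psi_mul hT, Psi, e]
  noncomm_ring

/-- the cubic equation of `Phi a` -/
theorem cubic (hw : w ^ 2 + w + 1 = 0) (h3 : (3 : E) ≠ 0) (a : V8 F) :
    Phi i w a * Phi i w a * Phi i w a = -i (plusForm 4 F a) • Phi i w a +
      ((w - w ^ 2) / 9 * i (polar (plusForm 4 F) a (dia (tauB F) a a))) • (1 : Matrix (Fin 3) (Fin 3) E) := by
  have hθ := theta_ne hw h3
  have hθ2 := theta_sq hw
  have h9 : (9 : E) ≠ 0 := by
    have : (9 : E) = 3 * 3 := by norm_num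
    rw [this]; exact mul_ne_zero h3 h3
  have h1 := Phi_dia i hw h3 (dia (tauB F) a a) a
  rw [dia_dia, Phi_smul, trace_Phi_mul i hw h3, Phi_dia i hw h3 a a, trace_Phi_mul i hw h3] at h1
  have hc : polar (plusForm 4 F) (dia (tauB F) a a) a = polar (plusForm 4 F) a (dia (tauB F) a a) := polar_comm _ _ _
  have hs : polar (plusForm 4 F) a a = 2 * plusForm 4 F a := by rw [polar8, norm8]; ring
  rw [hc, hs, map_mul, map_ofNat] at h1
  generalize i (polar (plusForm 4 F) a (dia (tauB F) a a)) = t at *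
  generalize i (plusForm 4 F a) = q at *
  generalize Phi i w a = A at *
  generalize hθd : w - w ^ 2 = θ at *
  have e1 : w • (A * A) - w ^ 2 • (A * A) - (θ / 3 * -(2 * q)) • (1 : Matrix (Fin 3) (Fin 3) E) =
      θ • (A * A) + (θ / 3 * (2 * q)) • (1 : Matrix (Fin 3) (Fin 3) E) := by
    rw [← hθd]; module
  rw [e1] at h1
  have e2 : (θ • (A * A) + (θ / 3 * (2 * q)) • (1 : Matrix (Fin 3) (Fin 3) E)) * A =
      θ • (A * A * A) + (θ / 3 * (2 * q)) • A := by
    rw [add_mul, smul_mul_assoc, smul_mul_assoc, one_mul]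
  have e3 : A * (θ • (A * A) + (θ / 3 * (2 * q)) • (1 : Matrix (Fin 3) (Fin 3) E)) =
      θ • (A * A * A) + (θ / 3 * (2 * q)) • A := by
    rw [mul_add, mul_smul_comm, mul_smul_comm, mul_one, mul_assoc A A A]
  rw [e2, e3] at h1
  have e4 : w • (θ • (A * A * A) + (θ / 3 * (2 * q)) • A) - w ^ 2 • (θ • (A * A * A) + (θ / 3 * (2 * q)) • A) -
      (θ / 3 * -t) • (1 : Matrix (Fin 3) (Fin 3) E) =
      (θ ^ 2) • (A * A * A) + (θ ^ 2 / 3 * (2 * q)) • A + (θ / 3 * t) • (1 : Matrix (Fin 3) (Fin 3) E) := by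
    rw [← hθd]; module
  rw [e4, hθ2] at h1
  have e5 : (3 : E) • (A * A * A) = (3 : E) • (-q • A + (θ / 9 * t) • (1 : Matrix (Fin 3) (Fin 3) E)) := by
    have e6 : (3 : E) • (A * A * A) = (-3 / 3 * (2 * q)) • A + (θ / 3 * t) • (1 : Matrix (Fin 3) (Fin 3) E) - q • A := by
      rw [h1]; module
    rw [e6, smul_add, smul_smul, smul_smul]
    have e7 : (3 : E) * (θ / 9 * t) = θ / 3 * t := by field_simp; ring
    have e8 : (-3 : E) / 3 = -1 := by field_simp
    rw [e7, e8]
    module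
  exact smul_right_injective _ h3 e5

theorem cubic_Psi (hw : w ^ 2 + w + 1 = 0) (h3 : (3 : E) ≠ 0) (hT : T * T' = 1) (hT' : T' * T = 1) (a : V8 F) :
    Psi i w T T' a * Psi i w T T' a * Psi i w T T' a = -i (plusForm 4 F a) • Psi i w T T' a +
      ((w - w ^ 2) / 9 * i (polar (plusForm 4 F) a (dia (tauB F) a a))) • (1 : Matrix (Fin 3) (Fin 3) E) := by
  have e1 : Psi i w T T' a * Psi i w T T' a * Psi i w T T' a = T' * (Phi i w a * Phi i w a * Phi i w a) * T := by
    rw [Psi_mul hT, Psi]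
    calc T' * (Phi i w a * Phi i w a) * T * (T' * Phi i w a * T) =
        T' * (Phi i w a * Phi i w a) * (T * T') * Phi i w a * T := by noncomm_ring
      _ = _ := by rw [hT]; noncomm_ring
  rw [e1, cubic hw h3, mul_add, add_mul, mul_smul_comm, smul_mul_assoc, mul_smul_comm, smul_mul_assoc, mul_one, hT']
  rfl

end conj

/-! ### Diagonal data -/

/-- `g` acts on the matrices in the basis `T` through conjugation with `diagonal α` -/
structure Dg (i : F →+* E) (w : E) (g : V8 F ≃ₗ[F] V8 F) (T T' : Matrix (Fin 3) (Fin 3) E) (α : Fin 3 → E) : Prop where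
  tt : T * T' = 1
  tt' : T' * T = 1
  ne : ∀ a, α a ≠ 0
  eq : ∀ z, diagonal α * Psi i w T T' z = Psi i w T T' (g z) * diagonal α

section dg

variable {i : F →+* E} {w : E} {g : V8 F ≃ₗ[F] V8 F} {T T' : Matrix (Fin 3) (Fin 3) E} {α : Fin 3 → E}

theorem Dg.entry (h : Dg i w g T T' α) (z : V8 F) (a b : Fin 3) :
    α a * Psi i w T T' z a b = Psi i w T T' (g z) a b * α b := by
  have h1 := congrFun (congrFun (h.eq z) a) b
  rwa [Matrix.diagonal_mul, Matrix.mul_diagonal] at h1

/-- fixed vectors commute with the diagonal matrix -/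
theorem Dg.fix (h : Dg i w g T T' α) {z : V8 F} (hz : g z = z) {a b : Fin 3} (hab : α a ≠ α b) :
    Psi i w T T' z a b = 0 := by
  have h1 := h.entry z a b
  rw [hz] at h1
  have h2 : (α a - α b) * Psi i w T T' z a b = 0 := by linear_combination h1
  exact (mul_eq_zero.1 h2).resolve_left (sub_ne_zero.2 hab)

/-- the traceless matrices are spanned by the `Phi` of the basis vectors -/
theorem exists_comb (i : F →+* E) {w : E} (hw : w ^ 2 + w + 1 = 0) (h3 : (3 : E) ≠ 0)
    (hT' : T' * T = 1) {X : Matrix (Fin 3) (Fin 3) E} (hX : X 0 0 + X 1 1 + X 2 2 = 0) :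
    ∃ v : Fin 4 ⊕ Fin 4 → E, X = ∑ k, v k • Psi i w T T' (Pi.single k 1) := by
  have hX' : (T * X * T') 0 0 + (T * X * T') 1 1 + (T * X * T') 2 2 = 0 := by
    rw [← trace_fin_three, trace_mul_comm, ← mul_assoc, hT', one_mul, trace_fin_three, hX]
  obtain ⟨v, hv⟩ := H746.BRigid.exists_Phi_id hw h3 hX'
  refine ⟨v, ?_⟩
  have h1 : X = T' * (T * X * T') * T := by
    calc X = 1 * X * 1 := by rw [one_mul, mul_one]
      _ = (T' * T) * X * (T' * T) := by rw [hT']
      _ = _ := by noncomm_ring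
  have h2 : ∀ k : Fin 4 ⊕ Fin 4, Phi i w (Pi.single k 1 : V8 F) = Phi (RingHom.id E) w (Pi.single k 1 : V8 E) := by
    intro k
    have h4 : ∀ l : Fin 4 ⊕ Fin 4, i ((Pi.single k 1 : V8 F) l) = (RingHom.id E) ((Pi.single k 1 : V8 E) l) := by
      intro l
      rw [Pi.single_apply, Pi.single_apply]
      split_ifs <;> simp
    rw [Phi, Phi, Ph, Ph]
    simp only [h4]
  have h3' : Phi (RingHom.id E) w v = ∑ k, v k • Phi (RingHom.id E) w (Pi.single k 1 : V8 E) := by
    have h5 : ∀ s : Finset (Fin 4 ⊕ Fin 4), Phi (RingHom.id E) w (∑ k ∈ s, v k • (Pi.single k 1 : V8 E)) =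
        ∑ k ∈ s, v k • Phi (RingHom.id E) w (Pi.single k 1 : V8 E) := by
      intro s
      induction s using Finset.induction_on with
      | empty => rw [Finset.sum_empty, Finset.sum_empty, Phi_zero]
      | insert a s ha ih => rw [Finset.sum_insert ha, Finset.sum_insert ha, Phi_add, Phi_smul, ih]; rfl
    rw [← h5]
    congr 1
    funext l
    rw [Finset.sum_apply]
    simp [Pi.single_apply]
  rw [h1, ← hv, h3', Finset.mul_sum, Finset.sum_mul]
  refine Finset.sum_congr rfl fun k _ => ?_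
  rw [← h2, mul_smul_comm, smul_mul_assoc]
  rfl

/-- the matrices of the fixed vectors span the traceless matrices commuting with `diagonal α` -/
theorem Dg.mem_span (h : Dg i w g T T' α) (hw : w ^ 2 + w + 1 = 0) (h3 : (3 : E) ≠ 0) {m : ℕ} (hm : (m : F) ≠ 0)
    (hgm : g ^ m = 1) {X : Matrix (Fin 3) (Fin 3) E} (hX : X 0 0 + X 1 1 + X 2 2 = 0)
    (hXa : diagonal α * X = X * diagonal α) :
    X ∈ Submodule.span E (Psi i w T T' '' {z | g z = z}) := by
  obtain ⟨v, hv⟩ := exists_comb i hw h3 h.tt' hX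
  have hj : ∀ j : ℕ, X = ∑ k, v k • Psi i w T T' ((g ^ j) (Pi.single k 1)) := by
    intro j
    induction j with
    | zero => exact hv
    | succ j ih =>
      have h1 : ∀ z, (g ^ (j + 1)) z = g ((g ^ j) z) := by
        intro z
        rw [pow_succ']; rfl
      have h2 : X * diagonal α = (∑ k, v k • Psi i w T T' ((g ^ (j + 1)) (Pi.single k 1))) * diagonal α := by
        rw [← hXa, Finset.sum_mul]
        nth_rw 1 [ih]
        rw [Finset.mul_sum]
        refine Finset.sum_congr rfl fun k _ => ?_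
        rw [mul_smul_comm, smul_mul_assoc, h.eq, h1]
      ext a b
      have h4 := congrFun (congrFun h2 a) b
      rw [Matrix.mul_diagonal, Matrix.mul_diagonal] at h4
      exact mul_right_cancel₀ (h.ne b) h4
  have hmE : (m : E) ≠ 0 := by
    intro h0
    apply hm
    apply i.injective
    rw [map_natCast, h0, map_zero]
  -- the sums
  let π : V8 F → V8 F := fun z => ∑ j ∈ Finset.range m, (g ^ j) z
  have hπ : ∀ z, g (π z) = π z := by
    intro z
    change g (∑ j ∈ Finset.range m, (g ^ j) z) = _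
    rw [map_sum]
    have e1 : ∀ k, g ((g ^ k) z) = (g ^ (k + 1)) z := by
      intro k
      rw [pow_succ']; rfl
    rw [Finset.sum_congr rfl fun k _ => e1 k]
    have e3 := Finset.sum_range_succ (fun k => (g ^ k) z) m
    have e4 := Finset.sum_range_succ' (fun k => (g ^ k) z) m
    rw [e3] at e4
    have e5 : (g ^ m) z = (g ^ 0) z := by rw [hgm, pow_zero]
    rw [e5] at e4
    exact (add_right_cancel e4).symm
  have hsum : ∀ z, Psi i w T T' (π z) = ∑ j ∈ Finset.range m, Psi i w T T' ((g ^ j) z) := by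
    intro z
    have e6 : ∀ n : ℕ, Psi i w T T' (∑ j ∈ Finset.range n, (g ^ j) z) = ∑ j ∈ Finset.range n, Psi i w T T' ((g ^ j) z) := by
      intro n
      induction n with
      | zero => rw [Finset.range_zero, Finset.sum_empty, Finset.sum_empty, Psi_zero]
      | succ n ih => rw [Finset.sum_range_succ, Finset.sum_range_succ, Psi_add, ih]
    exact e6 m
  have h5 : (m : E) • X = ∑ k, v k • Psi i w T T' (π (Pi.single k 1)) := by
    have h6 : ∑ _j ∈ Finset.range m, X = (m : E) • X := by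
      rw [Finset.sum_const, Finset.card_range, ← Nat.cast_smul_eq_nsmul E]
    rw [← h6, Finset.sum_congr rfl fun j _ => hj j, Finset.sum_comm]
    refine Finset.sum_congr rfl fun k _ => ?_
    rw [hsum, Finset.smul_sum]
  have h7 : X = (m : E)⁻¹ • ∑ k, v k • Psi i w T T' (π (Pi.single k 1)) := by
    rw [← h5, smul_smul, inv_mul_cancel₀ hmE, one_smul]
  rw [h7]
  exact Submodule.smul_mem _ _ (Submodule.sum_mem _ fun k _ => Submodule.smul_mem _ _
    (Submodule.subset_span ⟨_, hπ _, rfl⟩))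

/-- the data of a matrix `P` -/
theorem exists_Dg [IsAlgClosed E] (hw : w ^ 2 + w + 1 = 0) (h3 : (3 : E) ≠ 0) {m : ℕ} (hm : (m : F) ≠ 0)
    (hgm : g ^ m = 1) {P P' : Matrix (Fin 3) (Fin 3) E} (hPP : P * P' = 1) (hPP' : P' * P = 1)
    (hP : ∀ z, Phi i w (g z) = P * Phi i w z * P') :
    ∃ T T' α, Dg i w g T T' α ∧ P * T = T * diagonal α := by
  have h1 : ∀ z, P * Phi i w z = Phi i w (g z) * P := by
    intro z
    rw [hP, mul_assoc _ P' P, hPP', mul_one]
  have h2 : ∀ k : ℕ, ∀ z, P ^ k * Phi i w z = Phi i w ((g ^ k) z) * P ^ k := by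
    intro k
    induction k with
    | zero => intro z; rw [pow_zero, pow_zero, one_mul, mul_one]; rfl
    | succ k ih =>
      intro z
      have e1 : (g ^ (k + 1)) z = g ((g ^ k) z) := by rw [pow_succ']; rfl
      rw [pow_succ', mul_assoc, ih, ← mul_assoc, h1, e1, mul_assoc]
  have h4 : ∀ z : V8 F, P ^ m * Phi i w z = Phi i w z * P ^ m := by
    intro z
    rw [h2, hgm]; rfl
  obtain ⟨c, hc⟩ := H989.OkuboRoot.scalar_of_comm i hw h3 h4
  have hmE : (m : E) ≠ 0 := by
    intro h0
    apply hm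
    apply i.injective
    rw [map_natCast, h0, map_zero]
  have hc0 : c ≠ 0 := by
    rintro rfl
    rw [zero_smul] at hc
    have h5 : P ^ m * P' ^ m = 1 := by
      have h6 : Commute P P' := by
        change P * P' = P' * P
        rw [hPP, hPP']
      rw [← h6.mul_pow, hPP, one_pow]
    rw [hc, zero_mul] at h5
    exact zero_ne_one h5
  obtain ⟨T, T', α, hT, hT', hα⟩ := exists_diag hmE hc0 hc
  refine ⟨T, T', α, ⟨hT, hT', ?_, ?_⟩, hα⟩
  · intro a ha
    have h7 : diagonal α * (T' * P' * T) = 1 := by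
      calc diagonal α * (T' * P' * T) = (T' * T) * diagonal α * (T' * P' * T) := by rw [hT', one_mul]
        _ = T' * (T * diagonal α) * (T' * P' * T) := by noncomm_ring
        _ = T' * (P * T) * (T' * P' * T) := by rw [hα]
        _ = T' * P * (T * T') * P' * T := by noncomm_ring
        _ = T' * (P * P') * T := by rw [hT]; noncomm_ring
        _ = 1 := by rw [hPP, mul_one, hT']
    have h8 := congrFun (congrFun h7 a) a
    rw [Matrix.diagonal_mul, ha, zero_mul, Matrix.one_apply_eq] at h8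
    exact zero_ne_one h8
  · intro z
    have h9 : diagonal α = T' * P * T := by
      rw [mul_assoc, hα, ← mul_assoc, hT', one_mul]
    rw [h9, Psi, Psi]
    calc T' * P * T * (T' * Phi i w z * T) = T' * P * (T * T') * Phi i w z * T := by noncomm_ring
      _ = T' * (P * Phi i w z) * T := by rw [hT]; noncomm_ring
      _ = T' * (Phi i w (g z) * P) * T := by rw [h1]
      _ = T' * Phi i w (g z) * (T * T') * P * T := by rw [hT]; noncomm_ring
      _ = _ := by noncomm_ring

/-- reordering -/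
theorem Dg.perm (h : Dg i w g T T' α) (σ : Equiv.Perm (Fin 3)) :
    Dg i w g (T.submatrix id σ) (T'.submatrix σ id) (α ∘ σ) := by
  have h1 : ∀ z, Psi i w (T.submatrix id σ) (T'.submatrix σ id) z = (Psi i w T T' z).submatrix σ σ := by
    intro z
    rw [Psi, Psi]
    ext a b
    simp [Matrix.mul_apply, Matrix.submatrix_apply]
  refine ⟨?_, ?_, fun a => h.ne (σ a), ?_⟩
  · have := Matrix.submatrix_mul_equiv T T' id σ id
    rw [this, h.tt]
    exact Matrix.submatrix_id_id _
  · ext a b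
    have h2 := congrFun (congrFun h.tt' (σ a)) (σ b)
    rw [Matrix.mul_apply] at h2 ⊢
    simp only [Matrix.submatrix_apply, id]
    rw [h2, Matrix.one_apply, Matrix.one_apply]
    simp [σ.injective.eq_iff]
  · intro z
    rw [h1, h1]
    ext a b
    rw [Matrix.diagonal_mul, Matrix.mul_diagonal, Matrix.submatrix_apply, Matrix.submatrix_apply]
    exact h.entry z (σ a) (σ b)

/-! ### Pairwise different eigenvalues -/

theorem Dg.D1_zero (h : Dg i w g T T' α) (hw : w ^ 2 + w + 1 = 0) (h3 : (3 : E) ≠ 0) (hα : Function.Injective α)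
    {v : V8 F} (hv : g v = v) (hvv : dia (tauB F) v v = 0) : v = 0 := by
  apply Psi_eq_zero hw h3 h.tt
  have h1 : Psi i w T T' v * Psi i w T T' v = 0 := by
    rw [Psi_mul h.tt, Phi_sq i hw h3 hvv, mul_zero, zero_mul]
  have h2 : ∀ a b, a ≠ b → Psi i w T T' v a b = 0 := fun a b hab => h.fix hv fun h5 => hab (hα h5)
  ext a b
  by_cases hab : a = b
  · subst hab
    have h4 := congrFun (congrFun h1 a) a
    rw [Matrix.mul_apply, Finset.sum_eq_single a (fun b _ hb => by rw [h2 a b hb.symm, zero_mul])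
      (fun hb => absurd (Finset.mem_univ _) hb)] at h4
    exact mul_self_eq_zero.1 h4
  · exact h2 a b hab

/-- three nonzero semilinear functionals have a common vector where they do not vanish -/
theorem avoid3 {V : Type*} [AddCommGroup V] [Module F V] (W : Submodule F V) (f1 f2 f3 : V → E)
    (a1 : ∀ x y (c : F), f1 (x + c • y) = f1 x + i c * f1 y) (a2 : ∀ x y (c : F), f2 (x + c • y) = f2 x + i c * f2 y)
    (a3 : ∀ x y (c : F), f3 (x + c • y) = f3 x + i c * f3 y) (b1 : ∃ x ∈ W, f1 x ≠ 0) (b2 : ∃ x ∈ W, f2 x ≠ 0)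
    (b3 : ∃ x ∈ W, f3 x ≠ 0) [Finite F] (hF : 2 < Nat.card F) : ∃ x ∈ W, f1 x ≠ 0 ∧ f2 x ≠ 0 ∧ f3 x ≠ 0 := by
  classical
  have : Fintype F := Fintype.ofFinite F
  obtain ⟨x1, hx1, c1⟩ := b1
  obtain ⟨x2, hx2, c2⟩ := b2
  obtain ⟨y, hy, c3⟩ := b3
  obtain ⟨x, hx, d1, d2⟩ : ∃ x ∈ W, f1 x ≠ 0 ∧ f2 x ≠ 0 := by
    by_cases h1 : f2 x1 = 0
    · by_cases h2 : f1 x2 = 0
      · refine ⟨x1 + (1 : F) • x2, W.add_mem hx1 (W.smul_mem _ hx2), ?_, ?_⟩
        · rw [a1, h2, mul_zero, add_zero]; exact c1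
        · rw [a2, h1, map_one, one_mul, zero_add]; exact c2
      · exact ⟨x2, hx2, h2, c2⟩
    · exact ⟨x1, hx1, c1, h1⟩
  by_cases d3 : f3 x = 0
  · by_contra hcon
    push Not at hcon
    have key : ∀ c : F, f1 (y + c • x) = 0 ∨ f2 (y + c • x) = 0 := by
      intro c
      by_contra h1
      push Not at h1
      have h2 := hcon (y + c • x) (W.add_mem hy (W.smul_mem _ hx)) h1.1 h1.2
      rw [a3, d3, mul_zero, add_zero] at h2
      exact c3 h2
    have u1 : ∀ c d : F, f1 (y + c • x) = 0 → f1 (y + d • x) = 0 → c = d := by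
      intro c d h1 h2
      rw [a1] at h1 h2
      apply i.injective
      have h4 : (i c - i d) * f1 x = 0 := by linear_combination h1 - h2
      exact sub_eq_zero.1 ((mul_eq_zero.1 h4).resolve_right d1)
    have u2 : ∀ c d : F, f2 (y + c • x) = 0 → f2 (y + d • x) = 0 → c = d := by
      intro c d h1 h2
      rw [a2] at h1 h2
      apply i.injective
      have h4 : (i c - i d) * f2 x = 0 := by linear_combination h1 - h2
      exact sub_eq_zero.1 ((mul_eq_zero.1 h4).resolve_right d2)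
    rw [Nat.card_eq_fintype_card, Fintype.two_lt_card_iff] at hF
    obtain ⟨r, s, t, hrs, hrt, hst⟩ := hF
    rcases key r with h1 | h1 <;> rcases key s with h2 | h2 <;> rcases key t with h4 | h4
    · exact hrs (u1 _ _ h1 h2)
    · exact hrs (u1 _ _ h1 h2)
    · exact hrt (u1 _ _ h1 h4)
    · exact hst (u2 _ _ h2 h4)
    · exact hst (u1 _ _ h2 h4)
    · exact hrt (u2 _ _ h1 h4)
    · exact hrs (u2 _ _ h1 h2)
    · exact hrs (u2 _ _ h1 h2)
  · exact ⟨x, hx, d1, d2, d3⟩

/-- the discriminant -/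
theorem disc_ne {θ q s l1 l2 l3 : E} (hθ : θ ^ 2 = -3) (h3 : (3 : E) ≠ 0)
    (e1 : l1 * l1 * l1 = -q * l1 + θ / 9 * s) (e2 : l2 * l2 * l2 = -q * l2 + θ / 9 * s)
    (e3 : l3 * l3 * l3 = -q * l3 + θ / 9 * s) (h12 : l1 ≠ l2) (h13 : l1 ≠ l3) (h23 : l2 ≠ l3) :
    4 * q ^ 3 ≠ s ^ 2 := by
  intro hq
  have h9 : (9 : E) ≠ 0 := by
    have : (9 : E) = 3 * 3 := by norm_num
    rw [this]; exact mul_ne_zero h3 h3
  have f1 : l1 ^ 2 + l1 * l2 + l2 ^ 2 = -q := by
    have h1 : (l1 - l2) * (l1 ^ 2 + l1 * l2 + l2 ^ 2 + q) = 0 := by linear_combination e1 - e2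
    have h2 := (mul_eq_zero.1 h1).resolve_left (sub_ne_zero.2 h12)
    linear_combination h2
  have f2 : l1 ^ 2 + l1 * l3 + l3 ^ 2 = -q := by
    have h1 : (l1 - l3) * (l1 ^ 2 + l1 * l3 + l3 ^ 2 + q) = 0 := by linear_combination e1 - e3
    have h2 := (mul_eq_zero.1 h1).resolve_left (sub_ne_zero.2 h13)
    linear_combination h2
  have f3 : l3 = -l1 - l2 := by
    have h1 : (l2 - l3) * (l1 + l2 + l3) = 0 := by linear_combination f1 - f2
    have h2 := (mul_eq_zero.1 h1).resolve_left (sub_ne_zero.2 h23)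
    linear_combination h2
  have f4 : θ * s = 9 * (l1 ^ 3 + q * l1) := by
    have h1 : θ / 9 * s = l1 ^ 3 + q * l1 := by linear_combination -e1
    rw [← h1]; field_simp
  have f5 : s ^ 2 = -27 * (l1 ^ 3 + q * l1) ^ 2 := by
    have h1 : (3 : E) * s ^ 2 = 3 * (-27 * (l1 ^ 3 + q * l1) ^ 2) := by
      have h2 : θ ^ 2 * s ^ 2 = 81 * (l1 ^ 3 + q * l1) ^ 2 := by
        linear_combination (θ * s + 9 * (l1 ^ 3 + q * l1)) * f4
      rw [hθ] at h2
      linear_combination -h2
    exact mul_left_cancel₀ h3 h1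
  have f6 : q = -(l1 ^ 2 + l1 * l2 + l2 ^ 2) := by linear_combination f1
  have f7 : ((l1 - l2) * (l1 - l3) * (l2 - l3)) ^ 2 = 0 := by
    rw [f5, f6] at hq
    rw [f3]
    linear_combination -hq
  have f8 := pow_eq_zero_iff (two_ne_zero) |>.1 f7
  rcases mul_eq_zero.1 f8 with h1 | h1
  · rcases mul_eq_zero.1 h1 with h2 | h2
    · exact h12 (sub_eq_zero.1 h2)
    · exact h13 (sub_eq_zero.1 h2)
  · exact h23 (sub_eq_zero.1 h1)

/-- the fixed space -/
def fixS (g : V8 F ≃ₗ[F] V8 F) : Submodule F (V8 F) where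
  carrier := {z | g z = z}
  add_mem' := by
    intro x y hx hy
    change g (x + y) = x + y
    rw [map_add, show g x = x from hx, show g y = y from hy]
  zero_mem' := map_zero g
  smul_mem' := by
    intro c x hx
    change g (c • x) = c • x
    rw [map_smul, show g x = x from hx]

theorem Dg.D1_exists [Finite F] (h : Dg i w g T T' α) (hw : w ^ 2 + w + 1 = 0) (h3 : (3 : E) ≠ 0)
    (hα : Function.Injective α) {m : ℕ} (hm : (m : F) ≠ 0) (hgm : g ^ m = 1) (hF : 2 < Nat.card F) :
    ∃ a : V8 F, g a = a ∧ 4 * plusForm 4 F a ^ 3 ≠ polar (plusForm 4 F) a (dia (tauB F) a a) ^ 2 := by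
  -- the functionals
  have hadd : ∀ (k l : Fin 3) (x y : V8 F) (c : F),
      Psi i w T T' (x + c • y) k k - Psi i w T T' (x + c • y) l l =
        (Psi i w T T' x k k - Psi i w T T' x l l) + i c * (Psi i w T T' y k k - Psi i w T T' y l l) := by
    intro k l x y c
    rw [Psi_add, Psi_smul, Matrix.add_apply, Matrix.add_apply, Matrix.smul_apply, Matrix.smul_apply, smul_eq_mul,
      smul_eq_mul]
    ring
  have hex : ∀ (k l : Fin 3) (d : Fin 3 → E), d 0 + d 1 + d 2 = 0 → d k ≠ d l →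
      ∃ x ∈ fixS g, Psi i w T T' x k k - Psi i w T T' x l l ≠ 0 := by
    intro k l d hd hkl
    by_contra hcon
    push Not at hcon
    have h1 : ∀ X ∈ Submodule.span E (Psi i w T T' '' {z | g z = z}), X k k - X l l = 0 := by
      intro X hX
      induction hX using Submodule.span_induction with
      | mem x hx =>
        obtain ⟨z, hz, rfl⟩ := hx
        exact hcon z hz
      | zero => simp
      | add x y _ _ hx hy =>
        rw [Matrix.add_apply, Matrix.add_apply]
        linear_combination hx + hy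
      | smul c x _ hx =>
        rw [Matrix.smul_apply, Matrix.smul_apply, smul_eq_mul, smul_eq_mul]
        linear_combination c * hx
    have h2 := h1 (diagonal d) (h.mem_span hw h3 hm hgm (by simpa using hd) (by
      rw [Matrix.diagonal_mul_diagonal, Matrix.diagonal_mul_diagonal]
      congr 1
      funext a
      exact mul_comm _ _))
    rw [Matrix.diagonal_apply_eq, Matrix.diagonal_apply_eq, sub_eq_zero] at h2
    exact hkl h2
  obtain ⟨a, ha, n1, n2, n3⟩ := avoid3 (i := i) (fixS g) (fun x => Psi i w T T' x 0 0 - Psi i w T T' x 1 1)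
    (fun x => Psi i w T T' x 0 0 - Psi i w T T' x 2 2) (fun x => Psi i w T T' x 1 1 - Psi i w T T' x 2 2)
    (hadd 0 1) (hadd 0 2) (hadd 1 2) (hex 0 1 ![1, 0, -1] (by simp) (by simp)) (hex 0 2 ![1, -1, 0] (by simp) (by simp))
    (hex 1 2 ![-1, 1, 0] (by simp) (by simp)) hF
  have ha' : g a = a := ha
  refine ⟨a, ha', ?_⟩
  have hd : ∀ x y, x ≠ y → Psi i w T T' a x y = 0 := fun x y hxy => h.fix ha' fun h5 => hxy (hα h5)
  have hcub := cubic_Psi (i := i) hw h3 h.tt h.tt' a
  have e : ∀ k : Fin 3, Psi i w T T' a k k * Psi i w T T' a k k * Psi i w T T' a k k =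
      -i (plusForm 4 F a) * Psi i w T T' a k k +
      (w - w ^ 2) / 9 * i (polar (plusForm 4 F) a (dia (tauB F) a a)) := by
    intro k
    have h4 := congrFun (congrFun hcub k) k
    rw [Matrix.add_apply, Matrix.smul_apply, Matrix.smul_apply, Matrix.one_apply_eq, smul_eq_mul, smul_eq_mul,
      mul_one] at h4
    rw [← h4]
    fin_cases k <;> simp [Matrix.mul_apply, Fin.sum_univ_three, hd 0 1 (by decide), hd 0 2 (by decide),
      hd 1 0 (by decide), hd 1 2 (by decide), hd 2 0 (by decide), hd 2 1 (by decide)]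
  intro h0
  refine disc_ne (theta_sq hw) h3 (e 0) (e 1) (e 2) (sub_ne_zero.1 n1) (sub_ne_zero.1 n2) (sub_ne_zero.1 n3) ?_
  have h6 := congrArg i h0
  rw [map_mul, map_pow, map_pow, map_ofNat] at h6
  exact h6

/-! ### Two equal eigenvalues, the third one different -/

/-- the derived algebra of the fixed algebra -/
def DD (g : V8 F ≃ₗ[F] V8 F) : Submodule F (V8 F) :=
  Submodule.span F {d | ∃ c c', g c = c ∧ g c' = c' ∧ d = dia (tauB F) c c' - dia (tauB F) c' c}

theorem DD_fix (hg : Ex g) {d : V8 F} (hd : d ∈ DD g) : g d = d := by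
  induction hd using Submodule.span_induction with
  | mem x hx =>
    obtain ⟨c, c', hc, hc', rfl⟩ := hx
    rw [map_sub, hg, hg, hc, hc']
  | zero => exact map_zero g
  | add x y _ _ hx hy => rw [map_add, hx, hy]
  | smul c x _ hx => rw [map_smul, hx]

/-- the block matrices -/
def Blk (X : Matrix (Fin 3) (Fin 3) E) : Prop :=
  X 0 2 = 0 ∧ X 1 2 = 0 ∧ X 2 0 = 0 ∧ X 2 1 = 0 ∧ X 2 2 = 0 ∧ X 0 0 + X 1 1 = 0

theorem Dg.blk (h : Dg i w g T T' α) (hw : w ^ 2 + w + 1 = 0) (h3 : (3 : E) ≠ 0) (h01 : α 0 = α 1) (h02 : α 0 ≠ α 2)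
    {d : V8 F} (hd : d ∈ DD g) : Blk (Psi i w T T' d) := by
  have h12 : α 1 ≠ α 2 := h01 ▸ h02
  induction hd using Submodule.span_induction with
  | mem x hx =>
    obtain ⟨c, c', hc, hc', rfl⟩ := hx
    rw [Psi_comm hw h3 h.tt]
    have a1 := h.fix hc h02
    have a2 := h.fix hc h12
    have a3 := h.fix hc h02.symm
    have a4 := h.fix hc h12.symm
    have b1 := h.fix hc' h02
    have b2 := h.fix hc' h12
    have b3 := h.fix hc' h02.symm
    have b4 := h.fix hc' h12.symm
    refine ⟨?_, ?_, ?_, ?_, ?_, ?_⟩ <;>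
      simp only [Matrix.neg_apply, Matrix.sub_apply, Matrix.mul_apply, Fin.sum_univ_three, a1, a2, a3, a4, b1, b2, b3, b4] <;>
      ring
  | zero =>
    rw [Psi_zero]
    refine ⟨rfl, rfl, rfl, rfl, rfl, ?_⟩
    simp
  | add x y _ _ hx hy =>
    rw [Psi_add]
    obtain ⟨a1, a2, a3, a4, a5, a6⟩ := hx
    obtain ⟨b1, b2, b3, b4, b5, b6⟩ := hy
    refine ⟨?_, ?_, ?_, ?_, ?_, ?_⟩ <;> simp only [Matrix.add_apply]
    · rw [a1, b1, add_zero]
    · rw [a2, b2, add_zero]
    · rw [a3, b3, add_zero]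
    · rw [a4, b4, add_zero]
    · rw [a5, b5, add_zero]
    · linear_combination a6 + b6
  | smul c x _ hx =>
    rw [Psi_smul]
    obtain ⟨a1, a2, a3, a4, a5, a6⟩ := hx
    refine ⟨?_, ?_, ?_, ?_, ?_, ?_⟩ <;> simp only [Matrix.smul_apply, smul_eq_mul]
    · rw [a1, mul_zero]
    · rw [a2, mul_zero]
    · rw [a3, mul_zero]
    · rw [a4, mul_zero]
    · rw [a5, mul_zero]
    · linear_combination i c * a6

/-- singular vectors of the derived algebra lie in `Δ` -/
theorem Dg.dia_zero (h : Dg i w g T T' α) (hw : w ^ 2 + w + 1 = 0) (h3 : (3 : E) ≠ 0) (h01 : α 0 = α 1) (h02 : α 0 ≠ α 2)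
    {d : V8 F} (hd : d ∈ DD g) (hQ : plusForm 4 F d = 0) :
    dia (tauB F) d d = 0 ∧ Psi i w T T' d * Psi i w T T' d = 0 := by
  obtain ⟨a1, a2, a3, a4, a5, a6⟩ := h.blk hw h3 h01 h02 hd
  have hcub := cubic_Psi (i := i) hw h3 h.tt h.tt' d
  rw [hQ, map_zero, neg_zero, zero_smul, zero_add] at hcub
  generalize (w - w ^ 2) / 9 * i (polar (plusForm 4 F) d (dia (tauB F) d d)) = t at hcub
  have a6' : Psi i w T T' d 1 1 = -Psi i w T T' d 0 0 := by linear_combination a6
  have hsq : Psi i w T T' d * Psi i w T T' d = 0 := by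
    have e22 := congrFun (congrFun hcub 2) 2
    have e00 := congrFun (congrFun hcub 0) 0
    have e01 := congrFun (congrFun hcub 0) 1
    have e10 := congrFun (congrFun hcub 1) 0
    simp only [Matrix.mul_apply, Fin.sum_univ_three, a1, a2, a3, a4, a5, a6', Matrix.smul_apply, Matrix.one_apply_eq,
      smul_eq_mul, mul_one, ne_eq, zero_ne_one, one_ne_zero, not_false_eq_true, Matrix.one_apply_ne, mul_zero,
      add_zero, zero_mul] at e22 e00 e01 e10
    rw [← e22] at e00
    generalize hx : Psi i w T T' d 0 0 = x at *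
    generalize hy : Psi i w T T' d 0 1 = y at *
    generalize hz : Psi i w T T' d 1 0 = z at *
    have e : x * x + y * z = 0 := by
      by_contra hne
      have f1 : x = 0 := by
        have : (x * x + y * z) * x = 0 := by linear_combination e00
        exact (mul_eq_zero.1 this).resolve_left hne
      have f2 : y = 0 := by
        have : (x * x + y * z) * y = 0 := by linear_combination e01
        exact (mul_eq_zero.1 this).resolve_left hne
      apply hne
      rw [f1, f2]; ring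
    ext a b
    fin_cases a <;> fin_cases b <;>
      simp [Matrix.mul_apply, Fin.sum_univ_three, a1, a2, a3, a4, a5, a6', hx, hy, hz]
    · exact e
    · ring
    · ring
    · linear_combination e
  refine ⟨?_, hsq⟩
  apply H746.BRigid.dia_zero_of_sq i hw h3
  have h5 : T * (Psi i w T T' d * Psi i w T T' d) * T' = Phi i w d * Phi i w d := by
    rw [Psi_mul h.tt]
    calc T * (T' * (Phi i w d * Phi i w d) * T) * T' = (T * T') * (Phi i w d * Phi i w d) * (T * T') := by noncomm_ring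
      _ = _ := by rw [h.tt, one_mul, mul_one]
  rw [← h5, hsq, mul_zero, zero_mul]

/-- brackets of the span of the fixed matrices -/
theorem bracket_mem (hw : w ^ 2 + w + 1 = 0) (h3 : (3 : E) ≠ 0) (hT : T * T' = 1) {X Y : Matrix (Fin 3) (Fin 3) E}
    (hX : X ∈ Submodule.span E (Psi i w T T' '' {z | g z = z}))
    (hY : Y ∈ Submodule.span E (Psi i w T T' '' {z | g z = z})) :
    X * Y - Y * X ∈ Submodule.span E (Psi i w T T' '' (DD g : Set (V8 F))) := by
  induction hX, hY using Submodule.span_induction₂ with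
  | mem_mem x y hx hy =>
    obtain ⟨c, hc, rfl⟩ := hx
    obtain ⟨c', hc', rfl⟩ := hy
    have h1 := Psi_comm (i := i) hw h3 hT c c'
    rw [← neg_eq_iff_eq_neg] at h1
    rw [← h1]
    exact Submodule.neg_mem _ (Submodule.subset_span ⟨_, Submodule.subset_span ⟨c, c', hc, hc', rfl⟩, rfl⟩)
  | zero_left y _ => rw [zero_mul, mul_zero, sub_zero]; exact Submodule.zero_mem _
  | zero_right x _ => rw [zero_mul, mul_zero, sub_zero]; exact Submodule.zero_mem _
  | add_left x y z _ _ _ hx hy =>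
    have : (x + y) * z - z * (x + y) = (x * z - z * x) + (y * z - z * y) := by noncomm_ring
    rw [this]
    exact Submodule.add_mem _ hx hy
  | add_right x y z _ _ _ hx hy =>
    have : x * (y + z) - (y + z) * x = (x * y - y * x) + (x * z - z * x) := by noncomm_ring
    rw [this]
    exact Submodule.add_mem _ hx hy
  | smul_left r x y _ _ hx =>
    have : (r • x) * y - y * (r • x) = r • (x * y - y * x) := by
      rw [smul_mul_assoc, mul_smul_comm, smul_sub]
    rw [this]
    exact Submodule.smul_mem _ _ hx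
  | smul_right r x y _ _ hx =>
    have : x * (r • y) - (r • y) * x = r • (x * y - y * x) := by
      rw [smul_mul_assoc, mul_smul_comm, smul_sub]
    rw [this]
    exact Submodule.smul_mem _ _ hx

/-- the three root and torus matrices -/
theorem Dg.mem3 (h : Dg i w g T T' α) (hw : w ^ 2 + w + 1 = 0) (h3 : (3 : E) ≠ 0) {m : ℕ} (hm : (m : F) ≠ 0)
    (hgm : g ^ m = 1) (h01 : α 0 = α 1) :
    !![0, 1, 0; 0, 0, 0; 0, 0, 0] ∈ Submodule.span E (Psi i w T T' '' (DD g : Set (V8 F))) ∧
    !![0, 0, 0; 1, 0, 0; 0, 0, 0] ∈ Submodule.span E (Psi i w T T' '' (DD g : Set (V8 F))) ∧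
    !![1, 0, 0; 0, -1, 0; 0, 0, 0] ∈ Submodule.span E (Psi i w T T' '' (DD g : Set (V8 F))) := by
  have m1 : (!![0, 1, 0; 0, 0, 0; 0, 0, 0] : Matrix (Fin 3) (Fin 3) E) ∈
      Submodule.span E (Psi i w T T' '' {z | g z = z}) := by
    apply h.mem_span hw h3 hm hgm (by simp)
    ext a b
    fin_cases a <;> fin_cases b <;> simp [Matrix.diagonal_mul, Matrix.mul_diagonal, h01]
  have m2 : (!![0, 0, 0; 1, 0, 0; 0, 0, 0] : Matrix (Fin 3) (Fin 3) E) ∈
      Submodule.span E (Psi i w T T' '' {z | g z = z}) := by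
    apply h.mem_span hw h3 hm hgm (by simp)
    ext a b
    fin_cases a <;> fin_cases b <;> simp [Matrix.diagonal_mul, Matrix.mul_diagonal, h01]
  have m3 : (!![1, 0, 0; 0, 0, 0; 0, 0, -1] : Matrix (Fin 3) (Fin 3) E) ∈
      Submodule.span E (Psi i w T T' '' {z | g z = z}) := by
    apply h.mem_span hw h3 hm hgm (by simp)
    ext a b
    fin_cases a <;> fin_cases b <;> simp [Matrix.diagonal_mul, Matrix.mul_diagonal]
  have m4 : (!![0, 0, 0; 0, 1, 0; 0, 0, -1] : Matrix (Fin 3) (Fin 3) E) ∈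
      Submodule.span E (Psi i w T T' '' {z | g z = z}) := by
    apply h.mem_span hw h3 hm hgm (by simp)
    ext a b
    fin_cases a <;> fin_cases b <;> simp [Matrix.diagonal_mul, Matrix.mul_diagonal]
  have b1 := bracket_mem hw h3 h.tt m3 m1
  have b2 := bracket_mem hw h3 h.tt m4 m2
  have b3 := bracket_mem hw h3 h.tt m1 m2
  refine ⟨?_, ?_, ?_⟩
  · convert b1 using 1
    ext a b
    fin_cases a <;> fin_cases b <;> simp
  · convert b2 using 1
    ext a b
    fin_cases a <;> fin_cases b <;> simp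
  · convert b3 using 1
    ext a b
    fin_cases a <;> fin_cases b <;> simp

/-- `dim DD ≥ 3` -/
theorem Dg.three_le (h : Dg i w g T T' α) (hw : w ^ 2 + w + 1 = 0) (h3 : (3 : E) ≠ 0) {m : ℕ} (hm : (m : F) ≠ 0)
    (hgm : g ^ m = 1) (h01 : α 0 = α 1) : 3 ≤ finrank F (DD g) := by
  classical
  obtain ⟨m1, m2, m3⟩ := h.mem3 hw h3 hm hgm h01
  let n := finrank F (DD g)
  let b := finBasis F (DD g)
  let W : Submodule E (Matrix (Fin 3) (Fin 3) E) := Submodule.span E (Set.range fun j : Fin n => Psi i w T T' (b j : V8 F))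
  have hle : Submodule.span E (Psi i w T T' '' (DD g : Set (V8 F))) ≤ W := by
    rw [Submodule.span_le]
    rintro _ ⟨d, hd, rfl⟩
    have h1 : d = ∑ j, (b.repr ⟨d, hd⟩ j) • (b j : V8 F) := by
      have h2 : ((∑ j, (b.repr ⟨d, hd⟩ j) • b j : DD g) : V8 F) = d := congrArg (Subtype.val) (b.sum_repr ⟨d, hd⟩)
      rw [Submodule.coe_sum] at h2
      exact h2.symm
    have h5 : ∀ s : Finset (Fin n), Psi i w T T' (∑ j ∈ s, (b.repr ⟨d, hd⟩ j) • (b j : V8 F)) =
        ∑ j ∈ s, i (b.repr ⟨d, hd⟩ j) • Psi i w T T' (b j : V8 F) := by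
      intro s
      induction s using Finset.induction_on with
      | empty => rw [Finset.sum_empty, Finset.sum_empty, Psi_zero]
      | insert a s ha ih => rw [Finset.sum_insert ha, Finset.sum_insert ha, Psi_add, Psi_smul, ih]
    rw [h1, h5]
    exact Submodule.sum_mem _ fun j _ => Submodule.smul_mem _ _ (Submodule.subset_span ⟨j, rfl⟩)
  let f : (Fin 3 → E) →ₗ[E] W :=
    { toFun := fun t => ⟨t 0 • !![0, 1, 0; 0, 0, 0; 0, 0, 0] + t 1 • !![0, 0, 0; 1, 0, 0; 0, 0, 0] +
        t 2 • !![1, 0, 0; 0, -1, 0; 0, 0, 0], W.add_mem (W.add_mem (W.smul_mem _ (hle m1)) (W.smul_mem _ (hle m2)))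
        (W.smul_mem _ (hle m3))⟩
      map_add' := by
        intro x y
        apply Subtype.ext
        simp only [Pi.add_apply, Submodule.coe_add]
        module
      map_smul' := by
        intro c x
        apply Subtype.ext
        simp only [Pi.smul_apply, smul_eq_mul, Submodule.coe_smul, RingHom.id_apply]
        module }
  have hf : Function.Injective f := by
    intro x y hxy
    have h1 : (f x).1 = (f y).1 := congrArg Subtype.val hxy
    have e0 := congrFun (congrFun h1 0) 1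
    have e1 := congrFun (congrFun h1 1) 0
    have e2 := congrFun (congrFun h1 0) 0
    simp [f] at e0 e1 e2
    funext k
    fin_cases k
    · exact e0
    · exact e1
    · exact e2
  have h6 := LinearMap.finrank_le_finrank_of_injective hf
  rw [finrank_fin_fun] at h6
  have h7 : finrank E W ≤ Fintype.card (Fin n) := finrank_range_le_card _
  rw [Fintype.card_fin] at h7
  exact h6.trans h7

/-- the hyperbolic pair -/
theorem Dg.D2_exists [Finite F] (h : Dg i w g T T' α) (hw : w ^ 2 + w + 1 = 0) (h3 : (3 : E) ≠ 0) (hg : Ex g)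
    (h01 : α 0 = α 1) (h02 : α 0 ≠ α 2) {m : ℕ} (hm : (m : F) ≠ 0) (hgm : g ^ m = 1) :
    ∃ v v' : V8 F, g v = v ∧ g v' = v' ∧ dia (tauB F) v v = 0 ∧ dia (tauB F) v' v' = 0 ∧
      polar (plusForm 4 F) v v' = 1 := by
  have hdim := h.three_le hw h3 hm hgm h01
  obtain ⟨m1, m2, _⟩ := h.mem3 hw h3 hm hgm h01
  let β : DD g →ₗ[F] DD g →ₗ[F] F := LinearMap.mk₂ F (fun x y => x.1 (.inl 0) * y.1 (.inr 0) + x.1 (.inl 1) * y.1 (.inr 1) +
      x.1 (.inl 2) * y.1 (.inr 2) + x.1 (.inl 3) * y.1 (.inr 3))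
    (by intro x y z; simp only [Submodule.coe_add, Pi.add_apply]; ring)
    (by intro c x y; simp only [Submodule.coe_smul, Pi.smul_apply, smul_eq_mul]; ring)
    (by intro x y z; simp only [Submodule.coe_add, Pi.add_apply]; ring)
    (by intro c x y; simp only [Submodule.coe_smul, Pi.smul_apply, smul_eq_mul]; ring)
  obtain ⟨⟨v, hv⟩, hv0, hvβ⟩ := H950.exists_common_isotropic (fun _ : Unit => β) (by rw [Fintype.card_unit]; omega)
  have hQ : plusForm 4 F v = 0 := by
    rw [norm8]
    exact hvβ ()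
  have hv0' : v ≠ 0 := fun h0 => hv0 (Subtype.ext h0)
  obtain ⟨hvd, hvsq⟩ := h.dia_zero hw h3 h01 h02 hv hQ
  obtain ⟨v1, hv1, hp⟩ : ∃ v1 ∈ DD g, polar (plusForm 4 F) v v1 ≠ 0 := by
    by_contra hcon
    push Not at hcon
    apply hv0'
    apply Psi_eq_zero (i := i) hw h3 h.tt
    have h1 : ∀ X ∈ Submodule.span E (Psi i w T T' '' (DD g : Set (V8 F))), trace (Psi i w T T' v * X) = 0 := by
      intro X hX
      induction hX using Submodule.span_induction with
      | mem x hx =>
        obtain ⟨d, hd, rfl⟩ := hx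
        rw [trace_Psi_mul hw h3 h.tt, hcon d hd, map_zero, neg_zero]
      | zero => rw [mul_zero, trace_zero]
      | add x y _ _ hx hy => rw [mul_add, trace_add, hx, hy, add_zero]
      | smul c x _ hx => rw [mul_smul_comm, trace_smul, hx, smul_zero]
    have e1 := h1 _ m1
    have e2 := h1 _ m2
    rw [trace_fin_three] at e1 e2
    simp [Matrix.mul_apply, Fin.sum_univ_three] at e1 e2
    obtain ⟨a1, a2, a3, a4, a5, a6⟩ := h.blk hw h3 h01 h02 hv
    have e3 := congrFun (congrFun hvsq 0) 0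
    simp [Matrix.mul_apply, Fin.sum_univ_three, a1, e1, e2] at e3
    rw [e3, zero_add] at a6
    ext x y
    fin_cases x <;> fin_cases y <;> simp [a1, a2, a3, a4, a5, a6, e1, e2, e3]
  -- the second vector
  have hvv : polar (plusForm 4 F) v v = 0 := polar_self_of_sing hQ
  let c := plusForm 4 F v1 / polar (plusForm 4 F) v v1
  have hw2 : v1 - c • v ∈ DD g := Submodule.sub_mem _ hv1 (Submodule.smul_mem _ _ hv)
  have hp2 : polar (plusForm 4 F) v (v1 - c • v) = polar (plusForm 4 F) v v1 := by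
    have : polar (plusForm 4 F) v (v1 - c • v) = polar (plusForm 4 F) v v1 - c * polar (plusForm 4 F) v v := by
      simp only [polar8, Pi.sub_apply, Pi.smul_apply, smul_eq_mul]; ring
    rw [this, hvv, mul_zero, sub_zero]
  have hQ2 : plusForm 4 F (v1 - c • v) = 0 := by
    have : plusForm 4 F (v1 - c • v) = plusForm 4 F v1 - c * polar (plusForm 4 F) v v1 + c * c * plusForm 4 F v := by
      simp only [polar8, norm8, Pi.sub_apply, Pi.smul_apply, smul_eq_mul]; ring
    rw [this, hQ, mul_zero, add_zero]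
    change _ - plusForm 4 F v1 / polar (plusForm 4 F) v v1 * _ = 0
    rw [div_mul_cancel₀ _ hp, sub_self]
  obtain ⟨hd2, _⟩ := h.dia_zero hw h3 h01 h02 hw2 hQ2
  refine ⟨v, (polar (plusForm 4 F) v v1)⁻¹ • (v1 - c • v), DD_fix hg hv, ?_, hvd, ?_, ?_⟩
  · rw [map_smul, DD_fix hg hw2]
  · exact H989.OkuboRoot.smul_dia hd2 _
  · have : polar (plusForm 4 F) v ((polar (plusForm 4 F) v v1)⁻¹ • (v1 - c • v)) =
        (polar (plusForm 4 F) v v1)⁻¹ * polar (plusForm 4 F) v (v1 - c • v) := by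
      simp only [polar8, Pi.smul_apply, smul_eq_mul]; ring
    rw [this, hp2, inv_mul_cancel₀ hp]

/-- the identity -/
theorem pair_one (h3 : (3 : F) ≠ 0) : ∃ v v' : V8 F, dia (tauB F) v v = 0 ∧ dia (tauB F) v' v' = 0 ∧
    polar (plusForm 4 F) v v' = 1 := by
  refine ⟨Sum.elim ![0, 1, 1, 1] ![0, 0, 0, 0], Sum.elim ![0, 0, 0, 0] ![0, 3⁻¹, 3⁻¹, 3⁻¹], ?_, ?_, ?_⟩
  · apply ext8 <;> simp [dia_l0, dia_l1, dia_l2, dia_l3, dia_r0, dia_r1, dia_r2, dia_r3]
  · apply ext8 <;> simp [dia_l0, dia_l1, dia_l2, dia_l3, dia_r0, dia_r1, dia_r2, dia_r3]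
  · rw [polar8]
    simp
    field_simp
    ring

theorem exists_perm : ∀ a b : Fin 3, a ≠ b → ∃ σ : Equiv.Perm (Fin 3), σ 0 = a ∧ σ 1 = b := by decide

/-- **Box SS**, with the matrix `P`. -/
theorem semis_of [IsAlgClosed E] [Finite F] (hw : w ^ 2 + w + 1 = 0) (h3 : (3 : E) ≠ 0) (hg : Ex g) {m : ℕ}
    (hm : (m : F) ≠ 0) (hgm : g ^ m = 1) {P P' : Matrix (Fin 3) (Fin 3) E} (hPP : P * P' = 1) (hPP' : P' * P = 1)
    (hP : ∀ z, Phi i w (g z) = P * Phi i w z * P') :
    (∃ v v' : V8 F, g v = v ∧ g v' = v' ∧ dia (tauB F) v v = 0 ∧ dia (tauB F) v' v' = 0 ∧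
      polar (plusForm 4 F) v v' = 1) ∨
    ((∀ v : V8 F, g v = v → dia (tauB F) v v = 0 → v = 0) ∧
      (2 < Nat.card F → ∃ a : V8 F, g a = a ∧
        4 * plusForm 4 F a ^ 3 ≠ polar (plusForm 4 F) a (dia (tauB F) a a) ^ 2) ∧
      ∃ T T' α, Dg i w g T T' α ∧ P * T = T * diagonal α ∧ Function.Injective α) := by
  obtain ⟨T, T', α, h, hPT⟩ := exists_Dg (i := i) hw h3 hm hgm hPP hPP' hP
  have h3F : (3 : F) ≠ 0 := by
    intro h0
    apply h3
    have := congrArg i h0
    rwa [map_ofNat, map_zero] at this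
  by_cases hα : Function.Injective α
  · right
    exact ⟨fun v hv hvv => h.D1_zero hw h3 hα hv hvv, fun hF => h.D1_exists hw h3 hα hm hgm hF, T, T', α, h, hPT, hα⟩
  · left
    obtain ⟨a, b, hab, hne⟩ : ∃ a b, α a = α b ∧ a ≠ b := by
      by_contra hcon
      push Not at hcon
      exact hα fun a b hab => hcon a b hab
    obtain ⟨σ, hσ0, hσ1⟩ := exists_perm a b hne
    have h' := h.perm σ
    have h01 : (α ∘ σ) 0 = (α ∘ σ) 1 := by
      change α (σ 0) = α (σ 1)
      rw [hσ0, hσ1, hab]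
    by_cases h02 : (α ∘ σ) 0 = (α ∘ σ) 2
    · obtain ⟨v, v', k1, k2, k3⟩ := pair_one h3F
      have hid : ∀ z, g z = z := by
        intro z
        have h12 : (α ∘ σ) 1 = (α ∘ σ) 2 := by rw [← h01, h02]
        have hall : ∀ a b, (α ∘ σ) a = (α ∘ σ) b := by
          intro a b
          fin_cases a <;> fin_cases b <;> first | rfl | exact h01 | exact h02 | exact h01.symm | exact h02.symm | exact h12 | exact h12.symm
        apply sub_eq_zero.1
        apply Psi_eq_zero (i := i) hw h3 h'.tt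
        rw [Psi_sub]
        ext a b
        have h5 := h'.entry z a b
        rw [hall a b, mul_comm] at h5
        rw [Matrix.sub_apply, Matrix.zero_apply, sub_eq_zero]
        exact (mul_right_cancel₀ (h'.ne b) h5).symm
      exact ⟨v, v', hid v, hid v', k1, k2, k3⟩
    · exact h'.D2_exists hw h3 hg h01 h02 hm hgm

/-- **Box SS**: the second alternative says that the commutant of `P` is reduced. -/
theorem semis_P [IsAlgClosed E] [Finite F] (hw : w ^ 2 + w + 1 = 0) (h3 : (3 : E) ≠ 0) (hg : Ex g) {m : ℕ}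
    (hm : (m : F) ≠ 0) (hgm : g ^ m = 1) {P P' : Matrix (Fin 3) (Fin 3) E} (hPP : P * P' = 1) (hPP' : P' * P = 1)
    (hP : ∀ z, Phi i w (g z) = P * Phi i w z * P') :
    (∃ v v' : V8 F, g v = v ∧ g v' = v' ∧ dia (tauB F) v v = 0 ∧ dia (tauB F) v' v' = 0 ∧
      polar (plusForm 4 F) v v' = 1) ∨
    (∀ N : Matrix (Fin 3) (Fin 3) E, N * P = P * N → N * N = 0 → N = 0) := by
  rcases semis_of hw h3 hg hm hgm hPP hPP' hP with h1 | ⟨_, _, T, T', α, hD, hPT, hα⟩
  · exact Or.inl h1
  · right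
    intro N hN hNN
    have e1 : diagonal α * (T' * N * T) = (T' * N * T) * diagonal α := by
      have e2 : diagonal α = T' * P * T := by rw [mul_assoc, hPT, ← mul_assoc, hD.tt', one_mul]
      calc diagonal α * (T' * N * T) = T' * P * T * (T' * N * T) := by rw [e2]
        _ = T' * P * (T * T') * N * T := by noncomm_ring
        _ = T' * (P * N) * T := by rw [hD.tt]; noncomm_ring
        _ = T' * (N * P) * T := by rw [hN]
        _ = T' * N * (T * T') * P * T := by rw [hD.tt]; noncomm_ring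
        _ = (T' * N * T) * (T' * P * T) := by noncomm_ring
        _ = _ := by rw [e2]
    have e3 : (T' * N * T) * (T' * N * T) = 0 := by
      calc (T' * N * T) * (T' * N * T) = T' * N * (T * T') * N * T := by noncomm_ring
        _ = T' * (N * N) * T := by rw [hD.tt]; noncomm_ring
        _ = 0 := by rw [hNN, mul_zero, zero_mul]
    have e4 : T' * N * T = 0 := by
      generalize T' * N * T = B at e1 e3
      have hoff : ∀ a b, a ≠ b → B a b = 0 := by
        intro a b hab
        have h5 := congrFun (congrFun e1 a) b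
        rw [Matrix.diagonal_mul, Matrix.mul_diagonal] at h5
        have h6 : (α a - α b) * B a b = 0 := by linear_combination h5
        exact (mul_eq_zero.1 h6).resolve_left (sub_ne_zero.2 fun h7 => hab (hα h7))
      ext a b
      by_cases hab : a = b
      · subst hab
        have h4 := congrFun (congrFun e3 a) a
        rw [Matrix.mul_apply, Finset.sum_eq_single a (fun b _ hb => by rw [hoff a b hb.symm, zero_mul])
          (fun hb => absurd (Finset.mem_univ _) hb)] at h4
        exact mul_self_eq_zero.1 h4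
      · exact hoff a b hab
    calc N = (T * T') * N * (T * T') := by rw [hD.tt, one_mul, mul_one]
      _ = T * (T' * N * T) * T' := by noncomm_ring
      _ = 0 := by rw [e4, mul_zero, zero_mul]

end dg

/-- **Box SS** (semisimple exact automorphisms of the Okubo product). -/
theorem semis [Finite F] (h3 : (3 : F) ≠ 0) {g : V8 F ≃ₗ[F] V8 F} (hg : Ex g) {m : ℕ}
    (hm : (m : F) ≠ 0) (_hm3 : m.Coprime 3) (hgm : g ^ m = 1) :
    (∃ v w : V8 F, g v = v ∧ g w = w ∧ dia (tauB F) v v = 0 ∧ dia (tauB F) w w = 0 ∧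
      polar (plusForm 4 F) v w = 1) ∨
    ((∀ v : V8 F, g v = v → dia (tauB F) v v = 0 → v = 0) ∧
      (2 < Nat.card F → ∃ a : V8 F, g a = a ∧
        4 * plusForm 4 F a ^ 3 ≠ polar (plusForm 4 F) a (dia (tauB F) a a) ^ 2)) := by
  let i : F →+* AlgebraicClosure F := algebraMap F (AlgebraicClosure F)
  have h3E : (3 : AlgebraicClosure F) ≠ 0 := by
    intro h0
    apply h3
    apply i.injective
    rw [map_ofNat, map_zero]
    exact h0
  obtain ⟨w, hw⟩ : ∃ w : AlgebraicClosure F, w ^ 2 + w + 1 = 0 := by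
    obtain ⟨w, hw⟩ := IsAlgClosed.exists_root
      (Polynomial.X ^ 2 + Polynomial.X + 1 : Polynomial (AlgebraicClosure F)) (by
        have : (Polynomial.X ^ 2 + Polynomial.X + 1 : Polynomial (AlgebraicClosure F)).degree = 2 := by
          compute_degree!
        rw [this]
        norm_num)
    refine ⟨w, ?_⟩
    rw [Polynomial.IsRoot.def] at hw
    simpa using hw
  obtain ⟨P, P', hPP, hPP', hP⟩ := H237.RC.SN.exists_conj i hw h3E hg
  rcases semis_of (i := i) hw h3E hg hm hgm hPP hPP' hP with h1 | ⟨h1, h2, _⟩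
  · exact Or.inl h1
  · exact Or.inr ⟨h1, h2⟩

end Cfsg.Agent.H188.RC.OkSS
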