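import Cfsg.Agent.H438.RC.SymBasic
import Cfsg.Agent.H438.RC.SymStmtB
import Cfsg.Agent.H906.RC.CaseOne

/-!
# S3510, family E, box E13, cases (1b) and (1c) (helper188)

* `symBeta (hD : DStmt) (hS : SmallStmt) : SymBeta`;
* `symGamma (hDS : DSwapStmt) (hS : SmallStmt) (h43 : GraphFourThree) : SymGamma`.

For `n = 4`, `q = 3` one counts fixed points of elements of prime power order on a plane over `F₉`.
-/

set_option autoImplicit false

namespace Cfsg.Agent.H188.RC.SymBC

open Matrix Cfsg Cfsg.Agent.LieClassical.HermBasic Cfsg.Agent.LieClassical.HermSiegel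
  Cfsg.Agent.LieClassical.HermGen Cfsg.Agent.LieClassical.SUBasic Cfsg.Agent.ClassicalGeometry.PSUAutBasic
  Cfsg.Agent.ClassicalGeometry.PSUAutCount Cfsg.Agent.H380.RC Cfsg.Agent.H438.RC

section count

/-- fixed points of a map of prime power order -/
theorem card_fix {V : Type*} [Finite V] {g : V → V} {r k : ℕ} (hr : r.Prime) (hg : ∀ v, g^[r ^ k] v = v) :
    Nat.card V ≡ Nat.card {v // g v = v} [MOD r] := by
  classical
  have := Fact.mk hr
  have := Fintype.ofFinite V
  let g' : Function.End V := g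
  have h0 : ∀ m : ℕ, g' ^ m = (g^[m] : V → V) := by
    intro m
    induction m with
    | zero => rfl
    | succ m ih => rw [pow_succ', ih]; funext v; exact (Function.iterate_succ_apply' g m v).symm
  have h1 : g' ^ r ^ k = 1 := by
    rw [h0]
    funext v
    exact hg v
  have h2 := Equiv.Perm.card_fixedPoints_modEq h1
  rw [Nat.card_eq_fintype_card]
  refine h2.trans (Nat.ModEq.symm ?_)
  rw [Nat.card_eq_fintype_card]
  exact congrArg (· % r) (Fintype.card_congr (Equiv.refl _))

variable {F : Type*} [Field F] {n : ℕ}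

/-- the vectors of `K` fixed by the linear map `g` -/
def Fx {g : (Fin n → F) → (Fin n → F)} (hadd : ∀ v w, g (v + w) = g v + g w) (hlin : Lin g)
    (K : Submodule F (Fin n → F)) : Submodule F (Fin n → F) where
  carrier := {v | v ∈ K ∧ g v = v}
  add_mem' := by
    rintro a b ⟨h1, h2⟩ ⟨h3, h4⟩
    exact ⟨K.add_mem h1 h3, by rw [hadd, h2, h4]⟩
  zero_mem' := ⟨K.zero_mem, by simpa using hlin 0 0⟩
  smul_mem' := by
    rintro c a ⟨h1, h2⟩
    exact ⟨K.smul_mem c h1, by rw [hlin, h2]⟩

variable {g : (Fin n → F) → (Fin n → F)}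

theorem mem_Fx (hadd : ∀ v w, g (v + w) = g v + g w) (hlin : Lin g) {K : Submodule F (Fin n → F)} {v : Fin n → F} :
    v ∈ Fx hadd hlin K ↔ v ∈ K ∧ g v = v := Iff.rfl

theorem stab_iter {K : Submodule F (Fin n → F)} (hK : Stab g K) (m : ℕ) : Stab g^[m] K := by
  induction m with
  | zero => exact fun v hv => hv
  | succ m ih =>
    intro v hv
    rw [Function.iterate_succ_apply']
    exact hK _ (ih v hv)

theorem iter_add (hadd : ∀ v w, g (v + w) = g v + g w) (m : ℕ) (v w : Fin n → F) :
    g^[m] (v + w) = g^[m] v + g^[m] w := by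
  induction m with
  | zero => rfl
  | succ m ih => rw [Function.iterate_succ_apply', Function.iterate_succ_apply', Function.iterate_succ_apply', ih, hadd]

theorem iter_lin (hlin : Lin g) (m : ℕ) : Lin g^[m] := by
  intro c v
  induction m with
  | zero => rfl
  | succ m ih => rw [Function.iterate_succ_apply', Function.iterate_succ_apply', ih, hlin]

omit [Field F] in
theorem iter_comm {h : (Fin n → F) → (Fin n → F)} (hc : ∀ v, g (h v) = h (g v)) (m : ℕ) (v : Fin n → F) :
    g^[m] (h v) = h (g^[m] v) := by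
  induction m with
  | zero => rfl
  | succ m ih => rw [Function.iterate_succ_apply', Function.iterate_succ_apply', ih, hc]

omit [Field F] in
/-- fixed points in an invariant subset -/
theorem card_fix_set (S : Set (Fin n → F)) [Finite S] (hS : ∀ v ∈ S, g v ∈ S) {r k : ℕ} (hr : r.Prime)
    (hg : ∀ v ∈ S, g^[r ^ k] v = v) : Nat.card S ≡ Nat.card {v : Fin n → F // v ∈ S ∧ g v = v} [MOD r] := by
  let g' : S → S := fun v => ⟨g v, hS v v.2⟩
  have h0 : ∀ (m : ℕ) (v : S), ((g'^[m] v : S) : Fin n → F) = g^[m] v := by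
    intro m
    induction m with
    | zero => intro v; rfl
    | succ m ih => intro v; rw [Function.iterate_succ_apply', Function.iterate_succ_apply', ← ih]
  have h1 := card_fix (g := g') hr (k := k) (fun v => Subtype.ext (by rw [h0]; exact hg v v.2))
  refine h1.trans (Nat.ModEq.symm ?_)
  refine congrArg (· % r) (Nat.card_congr ?_)
  exact
    { toFun := fun v => ⟨⟨v.1, v.2.1⟩, Subtype.ext v.2.2⟩
      invFun := fun v => ⟨v.1.1, v.1.2, congrArg Subtype.val v.2⟩
      left_inv := fun v => rfl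
      right_inv := fun v => rfl }

variable [Fintype F]

theorem card_sub (K : Submodule F (Fin n → F)) : Nat.card K = Fintype.card F ^ Module.finrank F K := by
  rw [Module.natCard_eq_pow_finrank (K := F), Nat.card_eq_fintype_card]

/-- elements of prime power order on a plane over `F₉` -/
theorem triv_or (hF : Fintype.card F = 9) {W : Submodule F (Fin n → F)} (hW : Module.finrank F W = 2)
    (hadd : ∀ v w, g (v + w) = g v + g w) (hlin : Lin g) (hst : Stab g W) {r k : ℕ} (hr : r.Prime) (h2 : r ≠ 2)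
    (h3 : r ≠ 3) (hg : ∀ v ∈ W, g^[r ^ k] v = v) :
    (∀ v ∈ W, g v = v) ∨ (r = 5 ∧ ∀ v ∈ W, g v = v → v = 0) := by
  have h4 := card_fix_set (W : Set (Fin n → F)) hst hr hg
  have h5 : Nat.card W = 81 := by rw [card_sub, hF, hW]; norm_num
  have h6 : Nat.card {v : Fin n → F // v ∈ (W : Set (Fin n → F)) ∧ g v = v} = 9 ^ Module.finrank F (Fx hadd hlin W) := by
    rw [← hF, ← card_sub]
    exact Nat.card_congr (Equiv.refl _)
  have h7 : Module.finrank F (Fx hadd hlin W) ≤ 2 := by
    rw [← hW]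
    exact Submodule.finrank_mono fun v hv => hv.1
  rw [h6] at h4
  change Nat.card W ≡ _ [MOD r] at h4
  rw [h5] at h4
  obtain ⟨c, hc⟩ : ∃ c, Module.finrank F (Fx hadd hlin W) = c := ⟨_, rfl⟩
  rw [hc] at h4 h7
  have hc3 : c = 0 ∨ c = 1 ∨ c = 2 := by omega
  rcases hc3 with rfl | rfl | rfl
  · right
    have h8 : r ∣ 80 := by
      have := (Nat.modEq_iff_dvd' (by norm_num)).1 h4.symm
      simpa using this
    have h9 : r ∣ 2 ^ 4 * 5 := by simpa using h8
    refine ⟨?_, ?_⟩
    · rcases hr.dvd_mul.1 h9 with h | h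
      · exact absurd ((Nat.prime_dvd_prime_iff_eq hr Nat.prime_two).1 (hr.dvd_of_dvd_pow h)) h2
      · exact (Nat.prime_dvd_prime_iff_eq hr (by norm_num)).1 h
    · intro v hv hgv
      have h10 : v ∈ Fx hadd hlin W := ⟨hv, hgv⟩
      rw [Submodule.finrank_eq_zero.1 hc] at h10
      exact h10
  · exfalso
    have h8 : r ∣ 72 := by
      have := (Nat.modEq_iff_dvd' (by norm_num)).1 h4.symm
      simpa using this
    have h9 : r ∣ 2 ^ 3 * 3 ^ 2 := by simpa using h8
    rcases hr.dvd_mul.1 h9 with h | h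
    · exact absurd ((Nat.prime_dvd_prime_iff_eq hr Nat.prime_two).1 (hr.dvd_of_dvd_pow h)) h2
    · exact absurd ((Nat.prime_dvd_prime_iff_eq hr Nat.prime_three).1 (hr.dvd_of_dvd_pow h)) h3
  · left
    intro v hv
    have h8 : Fx hadd hlin W = W := Submodule.eq_of_le_of_finrank_eq (fun v hv => hv.1) (by rw [hc, hW])
    rw [← h8] at hv
    exact hv.2

/-- an element of order 3 commuting with an element of order 5 on a plane over `F₉` -/
theorem no_three (hF : Fintype.card F = 9) {W : Submodule F (Fin n → F)} (hW : Module.finrank F W = 2)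
    {u h : (Fin n → F) → (Fin n → F)} (hadd : ∀ v w, u (v + w) = u v + u w) (hlin : Lin u) (hst : Stab u W)
    (hst' : Stab h W) (hcomm : ∀ v, u (h v) = h (u v)) {k : ℕ} (hu : ∀ v ∈ W, u^[3 ^ k] v = v)
    (hh : ∀ v ∈ W, h^[5] v = v) (h0 : ∀ v ∈ W, h v = v → v = 0) (hz : h 0 = 0) : ∀ v ∈ W, u v = v := by
  have h4 := card_fix_set (W : Set (Fin n → F)) hst Nat.prime_three hu
  have h5 : Nat.card W = 81 := by rw [card_sub, hF, hW]; norm_num
  have h6 : Nat.card {v : Fin n → F // v ∈ (W : Set (Fin n → F)) ∧ u v = v} = 9 ^ Module.finrank F (Fx hadd hlin W) := by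
    rw [← hF, ← card_sub]
    exact Nat.card_congr (Equiv.refl _)
  have h7 : Module.finrank F (Fx hadd hlin W) ≤ 2 := by
    rw [← hW]
    exact Submodule.finrank_mono fun v hv => hv.1
  rw [h6] at h4
  change Nat.card W ≡ _ [MOD 3] at h4
  rw [h5] at h4
  -- `h` acts on the fixed points
  have h8 := card_fix_set (g := h) (r := 5) (k := 1) (Fx hadd hlin W : Set (Fin n → F))
    (fun v hv => ⟨hst' v hv.1, by rw [hcomm, hv.2]⟩) (by norm_num) (fun v hv => by rw [pow_one]; exact hh v hv.1)
  have h9 : Nat.card {v : Fin n → F // v ∈ (Fx hadd hlin W : Set (Fin n → F)) ∧ h v = v} = 1 := by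
    rw [Nat.card_eq_one_iff_exists]
    exact ⟨⟨0, (Fx hadd hlin W).zero_mem, hz⟩, fun v => Subtype.ext (h0 _ v.2.1.1 v.2.2)⟩
  rw [h9] at h8
  change Nat.card (Fx hadd hlin W) ≡ 1 [MOD 5] at h8
  rw [card_sub, hF] at h8
  obtain ⟨c, hc⟩ : ∃ c, Module.finrank F (Fx hadd hlin W) = c := ⟨_, rfl⟩
  rw [hc] at h4 h7 h8
  have hc3 : c = 0 ∨ c = 1 ∨ c = 2 := by omega
  rcases hc3 with rfl | rfl | rfl
  · exact absurd h4 (by decide)
  · exact absurd h8 (by decide)
  · intro v hv
    have h8 : Fx hadd hlin W = W := Submodule.eq_of_le_of_finrank_eq (fun v hv => hv.1) (by rw [hc, hW])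
    rw [← h8] at hv
    exact hv.2

/-- no element of order 5 on a plane over `F₉` with a real structure -/
theorem no_five (hF : Fintype.card F = 3 ^ 2) {W : Submodule F (Fin n → F)} (hW : Module.finrank F W = 2)
    {T h : (Fin n → F) → (Fin n → F)} (hT : SymT 3 T) (hTW : Stab T W) (hst' : Stab h W)
    (hcomm : ∀ v, h (T v) = T (h v)) {k : ℕ}
    (hh : ∀ v ∈ W, h^[5 ^ k] v = v) (h0 : ∀ v ∈ W, h v = v → v = 0) (hz : h 0 = 0) : False := by
  let S : AddSubgroup (Fin n → F) :=
    { carrier := {v | v ∈ W ∧ T v = v}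
      add_mem' := by
        rintro a b ⟨h1, h2⟩ ⟨h3, h4⟩
        exact ⟨W.add_mem h1 h3, by rw [hT.add, h2, h4]⟩
      zero_mem' := ⟨W.zero_mem, hT.zero⟩
      neg_mem' := by
        rintro a ⟨h1, h2⟩
        exact ⟨W.neg_mem h1, by rw [hT.neg, h2]⟩ }
  have h5 : Nat.card W.toAddSubgroup = 3 ^ 4 := by
    change Nat.card W = _
    rw [card_sub, hF, hW]
    norm_num
  have h6 : Nat.card S ∣ 3 ^ 4 := by
    rw [← h5]
    exact AddSubgroup.card_dvd_of_le fun v hv => hv.1
  have h8 := card_fix_set (g := h) (r := 5) (k := k) (S : Set (Fin n → F))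
    (fun v hv => ⟨hst' v hv.1, by rw [← hcomm, hv.2]⟩) (by norm_num) (fun v hv => hh v hv.1)
  have h9 : Nat.card {v : Fin n → F // v ∈ (S : Set (Fin n → F)) ∧ h v = v} = 1 := by
    rw [Nat.card_eq_one_iff_exists]
    exact ⟨⟨0, S.zero_mem, hz⟩, fun v => Subtype.ext (h0 _ v.2.1.1 v.2.2)⟩
  rw [h9] at h8
  change Nat.card S ≡ 1 [MOD 5] at h8
  obtain ⟨c, hc, hc'⟩ := (Nat.dvd_prime_pow Nat.prime_three).1 h6
  rw [hc'] at h8
  -- a vector of `W`
  obtain ⟨w, hw, hw0⟩ : ∃ w ∈ W, w ≠ 0 := by
    by_contra hcon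
    push Not at hcon
    have : W = ⊥ := by
      rw [eq_bot_iff]
      exact fun v hv => hcon v hv
    rw [this, finrank_bot] at hW
    omega
  obtain ⟨a, ha⟩ := exists_not_fixed hF
  have hc3 : c = 0 ∨ c = 1 ∨ c = 2 ∨ c = 3 ∨ c = 4 := by omega
  rcases hc3 with rfl | rfl | rfl | rfl | rfl
  · rw [pow_zero] at hc'
    have key : ∀ v ∈ W, T v = -v := by
      intro v hv
      have h1 : v + T v ∈ S := ⟨W.add_mem hv (hTW v hv), by rw [hT.add, hT.TT, add_comm]⟩
      rw [AddSubgroup.card_eq_one] at hc'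
      rw [hc', AddSubgroup.mem_bot] at h1
      exact (neg_eq_of_add_eq_zero_right h1).symm
    have h1 := key _ (W.smul_mem a hw)
    rw [hT.smul, key w hw, smul_neg, neg_inj] at h1
    have h2 : (a ^ 3 - a) • w = 0 := by rw [sub_smul, h1, sub_self]
    exact ha (sub_eq_zero.1 ((smul_eq_zero.1 h2).resolve_right hw0))
  · exact absurd h8 (by decide)
  · exact absurd h8 (by decide)
  · exact absurd h8 (by decide)
  · have key : ∀ v ∈ W, T v = v := by
      intro v hv
      have h1 : S = W.toAddSubgroup := AddSubgroup.eq_of_le_of_card_ge (fun v hv => hv.1) (by rw [h5, hc'])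
      have h2 : v ∈ W.toAddSubgroup := hv
      rw [← h1] at h2
      exact h2.2
    have h1 := key _ (W.smul_mem a hw)
    rw [hT.smul, key w hw] at h1
    have h2 : (a ^ 3 - a) • w = 0 := by rw [sub_smul, h1, sub_self]
    exact ha (sub_eq_zero.1 ((smul_eq_zero.1 h2).resolve_right hw0))

theorem ne_two_three {m l : ℕ} (hm : m.Coprime 6) (hl : l ∣ m) (hl1 : l.Prime) : l ≠ 2 ∧ l ≠ 3 := by
  have h1 : l.Coprime 6 := Nat.Coprime.coprime_dvd_left hl hm
  constructor
  · rintro rfl
    exact absurd h1 (by decide)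
  · rintro rfl
    exact absurd h1 (by decide)

/-- an element of order prime to 6 on a plane over `F₉` with a real structure is trivial -/
theorem triv_real (hF : Fintype.card F = 3 ^ 2) {W : Submodule F (Fin n → F)} (hW : Module.finrank F W = 2)
    (hadd : ∀ v w, g (v + w) = g v + g w) (hlin : Lin g) (hst : Stab g W)
    {T : (Fin n → F) → (Fin n → F)} (hT : SymT 3 T) (hTW : Stab T W) (hcomm : ∀ v, g (T v) = T (g v)) :
    ∀ m : ℕ, m.Coprime 6 → (∀ v ∈ W, g^[m] v = v) → ∀ v ∈ W, g v = v := by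
  intro m
  induction m using Nat.strong_induction_on with
  | _ m ih =>
    intro hm hg
    by_cases hm1 : m = 1
    · rw [hm1] at hg
      exact hg
    · have hl := Nat.minFac_prime hm1
      obtain ⟨m', hm'⟩ := Nat.minFac_dvd m
      obtain ⟨l, hl'⟩ : ∃ l, m.minFac = l := ⟨_, rfl⟩
      have hlm : l ∣ m := hl' ▸ Nat.minFac_dvd m
      rw [hl'] at hl hm'
      obtain ⟨l2, l3⟩ := ne_two_three hm hlm hl
      have hm0 : m ≠ 0 := by
        rintro rfl
        exact absurd hm (by decide)
      have hm'0 : m' ≠ 0 := by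
        rintro rfl
        exact hm0 (by rw [hm', mul_zero])
      have hlt : m' < m := by
        rw [hm']
        have := hl.one_lt
        nlinarith [Nat.pos_of_ne_zero hm'0]
      have hcop : m'.Coprime 6 := Nat.Coprime.coprime_dvd_left ⟨l, by rw [hm']; ring⟩ hm
      have hit : ∀ v ∈ W, (g^[m'])^[l ^ 1] v = v := by
        intro v hv
        rw [pow_one, ← Function.iterate_mul, mul_comm, ← hm']
        exact hg v hv
      rcases triv_or (by rw [hF]; norm_num) hW (iter_add hadd m') (iter_lin hlin m') (stab_iter hst m') hl l2 l3 hit with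
        h1 | ⟨h1, h2⟩
      · exact ih m' hlt hcop h1
      · subst h1
        exact absurd (no_five hF hW hT hTW (stab_iter hst m') (iter_comm hcomm m') hit h2
          (by simpa using iter_lin hlin m' 0 0)) id

/-- an element of order prime to 6 on a plane over `F₉`, not trivial, has a power of order 5 -/
theorem exists_five (hF : Fintype.card F = 3 ^ 2) {W : Submodule F (Fin n → F)} (hW : Module.finrank F W = 2)
    (hadd : ∀ v w, g (v + w) = g v + g w) (hlin : Lin g) (hst : Stab g W) (hne : ∃ v ∈ W, g v ≠ v) :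
    ∀ m : ℕ, m.Coprime 6 → (∀ v ∈ W, g^[m] v = v) →
      ∃ e : ℕ, (∀ v ∈ W, (g^[e])^[5] v = v) ∧ ∀ v ∈ W, g^[e] v = v → v = 0 := by
  intro m
  induction m using Nat.strong_induction_on with
  | _ m ih =>
    intro hm hg
    by_cases hm1 : m = 1
    · rw [hm1] at hg
      obtain ⟨v, hv, hv'⟩ := hne
      exact absurd (hg v hv) hv'
    · have hl := Nat.minFac_prime hm1
      obtain ⟨m', hm'⟩ := Nat.minFac_dvd m
      obtain ⟨l, hl'⟩ : ∃ l, m.minFac = l := ⟨_, rfl⟩
      have hlm : l ∣ m := hl' ▸ Nat.minFac_dvd m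
      rw [hl'] at hl hm'
      obtain ⟨l2, l3⟩ := ne_two_three hm hlm hl
      have hm0 : m ≠ 0 := by
        rintro rfl
        exact absurd hm (by decide)
      have hm'0 : m' ≠ 0 := by
        rintro rfl
        exact hm0 (by rw [hm', mul_zero])
      have hlt : m' < m := by
        rw [hm']
        have := hl.one_lt
        nlinarith [Nat.pos_of_ne_zero hm'0]
      have hcop : m'.Coprime 6 := Nat.Coprime.coprime_dvd_left ⟨l, by rw [hm']; ring⟩ hm
      have hit : ∀ v ∈ W, (g^[m'])^[l ^ 1] v = v := by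
        intro v hv
        rw [pow_one, ← Function.iterate_mul, mul_comm, ← hm']
        exact hg v hv
      rcases triv_or (by rw [hF]; norm_num) hW (iter_add hadd m') (iter_lin hlin m') (stab_iter hst m') hl l2 l3 hit with
        h1 | ⟨h1, h2⟩
      · exact ih m' hlt hcop h1
      · subst h1
        rw [pow_one] at hit
        exact ⟨m', hit, h2⟩

end count

section aniso

variable {F : Type*} [Field F] [Fintype F] {n q : ℕ} {T : (Fin n → F) → (Fin n → F)}

theorem two_ne (hF : Fintype.card F = q ^ 2) (hq : Odd q) : (2 : F) ≠ 0 := by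
  intro h2
  obtain ⟨p, k, hp, hchar, hk, hk0⟩ := exists_prime_pow hF
  have h1 : p ∣ 2 := (CharP.cast_eq_zero_iff F p 2).1 (by exact_mod_cast h2)
  have h3 : p = 2 := (Nat.prime_dvd_prime_iff_eq hp Nat.prime_two).1 h1
  rw [hk, h3] at hq
  exact (Nat.not_even_iff_odd.2 hq) (Nat.even_pow.2 ⟨even_two, hk0.ne'⟩)

/-- the form on `Fix T` is not alternating -/
theorem exists_aniso (hF : Fintype.card F = q ^ 2) (hq : Odd q) (hT : SymT q T) (hn : 0 < n) :
    ∃ v, T v = v ∧ hermForm n F q v v ≠ 0 := by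
  by_contra hcon
  push Not at hcon
  have h2 := two_ne hF hq
  have key : ∀ v w, T v = v → T w = w → hermForm n F q v w = 0 := by
    intro v w hv hw
    have h1 := hcon (v + w) (by rw [hT.add, hv, hw])
    rw [herm_add_left, herm_add_right hF, herm_add_right hF, hcon v hv, hcon w hw] at h1
    have h3 := hT.herm v w
    rw [hv, hw] at h3
    have h4 := herm_swap hF v w
    rw [← h3] at h4
    rw [h4] at h1
    have h5 : (2 : F) * hermForm n F q v w = 0 := by linear_combination h1
    exact (mul_eq_zero.1 h5).resolve_left h2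
  have key2 : ∀ v w, T w = w → hermForm n F q v w = 0 := by
    intro v w hw
    obtain ⟨a, ha⟩ : ∃ a : Fin n → F, a ≠ 0 := ⟨Pi.single ⟨0, hn⟩ 1, by simp⟩
    have h1 := hT.span hF (A := ⊤) (fun _ _ => Submodule.mem_top) (δ := fun v => hermForm n F q v w • a)
      (fun v v' => by rw [herm_add_left, add_smul])
      (fun c v => by
        change hermForm n F q (c • v) w • a = c • (hermForm n F q v w • a)
        rw [herm_smul_left, mul_smul])
      (fun v _ hv => by rw [key v w hv hw, zero_smul]) v Submodule.mem_top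
    exact (smul_eq_zero.1 h1).resolve_right ha
  obtain ⟨a, ha⟩ : ∃ a : Fin n → F, a ≠ 0 := ⟨Pi.single ⟨0, hn⟩ 1, by simp⟩
  have key3 : ∀ v, hermForm n F q v a = 0 := by
    intro v
    have h1 := hT.span hF (A := ⊤) (fun _ _ => Submodule.mem_top) (δ := fun w => hermForm n F q w v • a)
      (fun v v' => by rw [herm_add_left, add_smul])
      (fun c w => by
        change hermForm n F q (c • w) v • a = c • (hermForm n F q w v • a)
        rw [herm_smul_left, mul_smul])
      (fun w _ hw => by rw [herm_eq_zero_swap hF (key2 v w hw), zero_smul]) a Submodule.mem_top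
    exact herm_eq_zero_swap hF ((smul_eq_zero.1 h1).resolve_right ha)
  obtain ⟨z, hz⟩ := exists_herm_ne_zero hF ha
  exact hz (herm_eq_zero_swap hF (key3 z))

end aniso

section main

variable {G Ω : Type} [Group G] [MulAction G Ω] {N : Subgroup G} {F : Type} [Field F] [Fintype F] {n q : ℕ}
  {U : UEnv G Ω N F n q} {ι : Type} {x : ι → G} {f : ι → (Fin n → F) → (Fin n → F)} {r : ι → ℕ} {i₀ : ι}
  {T g : (Fin n → F) → (Fin n → F)}

omit [Fintype F] in
theorem cg_self (h : SymG q T g) : Cg g g := ⟨h.add, h.lin, fun _ => rfl⟩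

/-- `q = 3` -/
theorem q_eq (U : UEnv G Ω N F n q) (hq : Odd q) (h3 : q ≤ 3) : q = 3 := by
  have h1 : 1 < Fintype.card F := Fintype.one_lt_card
  rw [U.hF] at h1
  obtain ⟨k, hk⟩ := hq
  rcases Nat.lt_or_ge q 2 with h | h
  · have : q = 1 := by omega
    rw [this] at h1
    norm_num at h1
  · omega

omit [Fintype F] in
/-- a map which is trivial on two complements -/
theorem eq_id {u : (Fin n → F) → (Fin n → F)} (hadd : ∀ v w, u (v + w) = u v + u w)
    {W W' : Submodule F (Fin n → F)} (hc : IsCompl W W') (h1 : ∀ v ∈ W, u v = v) (h2 : ∀ v ∈ W', u v = v) (v) :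
    u v = v := by
  have hv : v ∈ W ⊔ W' := by rw [hc.sup_eq_top]; trivial
  obtain ⟨w, hw, w', hw', rfl⟩ := Submodule.mem_sup.1 hv
  rw [hadd, h1 w hw, h2 w' hw']

theorem coprime_six {m : ℕ} (h1 : Odd m) (h2 : m.Coprime 3) : m.Coprime 6 := by
  have h3 : m.Coprime 2 := Nat.coprime_two_right.2 h1
  exact Nat.Coprime.mul_right h3 h2

/-- case (1b) -/
theorem symBeta (hD : DStmt) (hsm : SmallStmt) : SymBeta := by
  intro G Ω _ _ _ _ _ N F _ _ n q U ι _ x f r i₀ T g S hIH W W' hW hW' hc hTW hTW' hst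
  have hn := H906.RC.finrank_half U.hF hW hW' hc
  have hn' := H906.RC.finrank_half U.hF hW' hW hc.symm
  obtain ⟨-, -, -, hc4, -⟩ := hsm U.hF U.hn U.h32 hIH
  by_cases hex : Module.finrank F W = 2 ∧ q ≤ 3
  · obtain ⟨hd, hq3⟩ := hex
    have hq : q = 3 := q_eq U S.odd hq3
    subst hq
    have hd' : Module.finrank F W' = 2 := by omega
    obtain ⟨m, hm1, hm2, hm3⟩ := S.symG.ord
    have hm := coprime_six hm1 hm2
    obtain ⟨s1, s2⟩ := hst g (cg_self S.symG)
    have h1 := triv_real U.hF hd S.symG.add S.symG.lin s1 S.symT hTW S.symG.comm m hm (fun v _ => hm3 v)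
    have h2 := triv_real U.hF hd' S.symG.add S.symG.lin s2 S.symT hTW' S.symG.comm m hm (fun v _ => hm3 v)
    obtain ⟨v, hv⟩ := S.ne
    exact hv (eq_id S.symG.add hc h1 h2 v)
  · refine hD U x f r S.gf.fam S.cov ⟨W, W', hW, hW', hc, fun i => ?_, Or.inl (hc4 _ hn hex)⟩
    by_cases hi : i = i₀
    · rw [hi]
      obtain ⟨b, hb0, hb⟩ := S.gf.eq
      have key : ∀ K : Submodule F (Fin n → F), Stab T K → Stab (f i₀) K := by
        intro K hK v hv
        have h1 : f i₀ v = b⁻¹ • T v := by rw [hb, smul_smul, inv_mul_cancel₀ hb0, one_smul]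
        rw [h1]
        exact K.smul_mem _ (hK v hv)
      exact ⟨key W hTW, key W' hTW'⟩
    · exact hst _ (S.cg i hi)

/-- the swapping element moves some vector to a vector which is not orthogonal -/
theorem exists_nonorth (hF : Fintype.card F = q ^ 2) (hq : Odd q) (hT : SymT q T) {W W' : Submodule F (Fin n → F)}
    (hW : TS q W) (hc : IsCompl W W') (hTW : ∀ v ∈ W', T v ∈ W) (hW0 : ∃ w ∈ W, w ≠ 0) :
    ∃ w ∈ W, hermForm n F q w (T w) ≠ 0 := by
  by_contra hcon
  push Not at hcon
  have h2 := two_ne hF hq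
  have key : ∀ v ∈ W, ∀ w ∈ W, hermForm n F q v (T w) = 0 := by
    intro v hv w hw
    have h1 := hcon (v + w) (W.add_mem hv hw)
    rw [hT.add, herm_add_left, herm_add_right hF, herm_add_right hF, hcon v hv, hcon w hw] at h1
    have h3 := hT.herm v (T w)
    rw [hT.TT] at h3
    have h4 := herm_swap hF w (T v)
    rw [h3] at h4
    have h5 := (pow_q_inj hF).1 h4
    have h6 : (2 : F) * hermForm n F q v (T w) = 0 := by linear_combination h1 + h5
    exact (mul_eq_zero.1 h6).resolve_left h2
  obtain ⟨w, hw, hw0⟩ := hW0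
  obtain ⟨z, hz⟩ := exists_herm_ne_zero hF hw0
  apply hz
  have hzz : z ∈ W ⊔ W' := by rw [hc.sup_eq_top]; trivial
  obtain ⟨a, ha, b, hb, rfl⟩ := Submodule.mem_sup.1 hzz
  rw [herm_add_right hF, hW w hw a ha, zero_add]
  have h1 := key w hw (T b) (hTW b hb)
  rwa [hT.TT] at h1

/-- case (1c) -/
theorem symGamma (hDS : DSwapStmt) (hsm : SmallStmt) (h43 : GraphFourThree) : SymGamma := by
  intro G Ω _ _ _ _ _ N F _ _ n q U ι _ x f r i₀ T g S hIH W W' hW hW' hc hTW hTW' hst
  have hn := H906.RC.finrank_half U.hF hW hW' hc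
  have hn' := H906.RC.finrank_half U.hF hW' hW hc.symm
  have hn3 := U.hn
  obtain ⟨-, -, -, hc4, -⟩ := hsm U.hF U.hn U.h32 hIH
  by_cases hex : Module.finrank F W = 2 ∧ q ≤ 3
  · obtain ⟨hd, hq3⟩ := hex
    have hq : q = 3 := q_eq U S.odd hq3
    subst hq
    have hd' : Module.finrank F W' = 2 := by omega
    have hn4 : n = 4 := by omega
    subst hn4
    obtain ⟨m, hm1, hm2, hm3⟩ := S.symG.ord
    have hm := coprime_six hm1 hm2
    obtain ⟨s1, s2⟩ := hst g (cg_self S.symG)
    have hF9 : Fintype.card F = 9 := by rw [U.hF]; norm_num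
    -- `g` is not trivial on `W` and not trivial on `W'`
    have swap1 : (∀ v ∈ W, g v = v) → ∀ v ∈ W', g v = v := by
      intro h v hv
      have h1 := h _ (hTW' v hv)
      rw [S.symG.comm] at h1
      exact S.symT.inj h1
    have swap2 : (∀ v ∈ W', g v = v) → ∀ v ∈ W, g v = v := by
      intro h v hv
      have h1 := h _ (hTW v hv)
      rw [S.symG.comm] at h1
      exact S.symT.inj h1
    have ne1 : ∃ v ∈ W, g v ≠ v := by
      by_contra hcon
      push Not at hcon
      obtain ⟨v, hv⟩ := S.ne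
      exact hv (eq_id S.symG.add hc hcon (swap1 hcon) v)
    have ne2 : ∃ v ∈ W', g v ≠ v := by
      by_contra hcon
      push Not at hcon
      obtain ⟨v, hv⟩ := S.ne
      exact hv (eq_id S.symG.add hc (swap2 hcon) hcon v)
    obtain ⟨e1, he1, he1'⟩ := exists_five U.hF hd S.symG.add S.symG.lin s1 ne1 m hm (fun v _ => hm3 v)
    obtain ⟨e2, he2, he2'⟩ := exists_five U.hF hd' S.symG.add S.symG.lin s2 ne2 m hm (fun v _ => hm3 v)
    -- a linear member which is the identity is trivial
    have hid : ∀ j, ¬ ∀ v, f j v = v := by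
      intro j h
      exact S.gf.fam.pf.ne j ((S.gf.fam.lft j).eq_one_iff.2 ⟨1, fun v => by rw [h, one_smul]⟩)
    have hr5 : ∀ j, j ≠ i₀ → r j = 5 := by
      intro j hj
      obtain ⟨t1, t2⟩ := hst _ (S.cg j hj)
      have hadd := (S.cg j hj).add
      have hlin := (S.cg j hj).lin
      have hcm := (S.cg j hj).comm
      obtain ⟨k, hk⟩ := S.gf.fam.ord j
      have hpr := S.gf.fam.pf.prime j
      by_cases hcop : (r j).Coprime 3
      · obtain ⟨k', hk'⟩ := S.pow j hj hcop
        have h3 : r j ≠ 3 := by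
          intro h
          rw [h] at hcop
          exact absurd hcop (by decide)
        have h2 : r j ≠ 2 := by
          intro h
          apply hid j
          intro v
          have a1 : Function.IsPeriodicPt (f j) (r j ^ k) v := hk v
          have a2 : Function.IsPeriodicPt (f j) m v := by
            have b1 : f j = g^[k'] := funext hk'
            change (f j)^[m] v = v
            rw [b1, ← Function.iterate_mul, mul_comm, Function.iterate_mul]
            exact Function.iterate_fixed (hm3 v) k'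
          have a3 := a1.gcd a2
          have a4 : Nat.gcd (r j ^ k) m = 1 := by
            rw [h]
            exact Nat.Coprime.pow_left k (Nat.coprime_two_left.2 hm1)
          rw [a4] at a3
          exact a3
        rcases triv_or hF9 hd hadd hlin t1 hpr h2 h3 (fun v _ => hk v) with h4 | ⟨h4, -⟩
        · rcases triv_or hF9 hd' hadd hlin t2 hpr h2 h3 (fun v _ => hk v) with h5 | ⟨h5, -⟩
          · exact absurd (eq_id hadd hc h4 h5) (hid j)
          · exact h5
        · exact h4
      · exfalso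
        have h3 : r j = 3 := by
          by_contra h
          exact hcop ((Nat.coprime_primes hpr Nat.prime_three).2 h)
        rw [h3] at hk
        apply hid j
        have z : g 0 = 0 := by simpa using S.symG.lin 0 0
        have hz : ∀ e : ℕ, g^[e] 0 = 0 := fun e => Function.iterate_fixed z e
        have hcm' : ∀ (e : ℕ) v, f j (g^[e] v) = g^[e] (f j v) := fun e v => by
          have := iter_comm (g := g) (h := f j) (fun v => (hcm v).symm) e v
          exact this.symm
        exact eq_id hadd hc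
          (no_three hF9 hd hadd hlin t1 (stab_iter s1 e1) (hcm' e1) (fun v _ => hk v) he1 he1' (hz e1))
          (no_three hF9 hd' hadd hlin t2 (stab_iter s2 e2) (hcm' e2) (fun v _ => hk v) he2 he2' (hz e2))
    obtain ⟨j₀, hj₀⟩ : ∃ j, j ≠ i₀ := by
      by_contra hcon
      push Not at hcon
      refine U.env.not_all (Ω := Ω) (S.gf.fam.pf.ne i₀) fun ω => ?_
      obtain ⟨i, hi⟩ := S.cov ω
      rw [hcon i] at hi
      exact hi
    refine h43 U x f r S.gf.fam S.cov ⟨rfl, rfl, i₀, j₀, T, S.gf, exists_aniso U.hF S.odd S.symT (by norm_num),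
      hr5 j₀ hj₀, fun i => ?_⟩
    by_cases hi : i = i₀
    · exact Or.inl hi
    · exact Or.inr (S.gf.fam.pf.inj ((hr5 i hi).trans (hr5 j₀ hj₀).symm))
  · refine hDS U x f r S.gf.fam S.cov ⟨W, W', hW, hW', hc, fun i => ?_, Or.inl (hc4 _ hn hex)⟩
    by_cases hi : i = i₀
    · right
      rw [hi]
      obtain ⟨b, hb0, hb⟩ := S.gf.eq
      have h1 : ∀ v, f i₀ v = b⁻¹ • T v := fun v => by rw [hb, smul_smul, inv_mul_cancel₀ hb0, one_smul]
      refine ⟨fun v hv => ?_, fun v hv => ?_, ?_⟩
      · rw [h1]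
        exact W'.smul_mem _ (hTW v hv)
      · rw [h1]
        exact W.smul_mem _ (hTW' v hv)
      · have hW0 : ∃ w ∈ W, w ≠ 0 := by
          by_contra hcon
          push Not at hcon
          have h2 : W = ⊥ := by
            rw [eq_bot_iff]
            exact fun v hv => hcon v hv
          rw [h2, finrank_bot] at hn
          omega
        obtain ⟨w, hw, hw'⟩ := exists_nonorth U.hF S.odd S.symT hW hc hTW' hW0
        refine ⟨w, hw, ?_⟩
        rw [h1, herm_smul_right]
        exact mul_ne_zero (pow_ne_zero _ (inv_ne_zero hb0)) hw'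
    · exact Or.inl (hst _ (S.cg i hi))

end main

end Cfsg.Agent.H188.RC.SymBC
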